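import Groth.Agent.FFLib.RR
import Groth.Agent.FFLib.Rational
import Groth.Agent.FFLib.Ram.Unramified
import Mathlib.Data.Matrix.Basic
import Mathlib.Algebra.BigOperators.Fin

/-!
# Multiplication by a base point free system on a function field of one variable

If `x` is a base point free system in `L(D)`, there are negative divisors `Q` with degrees adding up to
`-deg D` such that, when enough translates of `G` by them are nonspecial, `L(G + D)` is generated by `x`
over `L(G)` and the relations among the `x` with coefficients in `L(G + D)` are Koszul.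
-/

set_option autoImplicit false
set_option linter.style.haveILetI false
set_option linter.unusedSectionVars false

namespace Groth.Agent.GLP

open FunFld WithZero Groth.Agent.FFLib

variable {k K : Type*} [Field k] [Field K] [Algebra k K]

/-- A nonspecial divisor. -/
def NS (D : Divisor k K) : Prop := (ell D : ℤ) = D.deg + 1 - genus k K

theorem NS.mono (hK : IsFunctionField k K) {D E : Divisor k K} (h : D ≤ E) (hD : NS D) : NS E := by
  have h1 := (ell_le_of_le hK.1 h).2
  have h2 := riemann hK.1 E
  rw [NS] at hD ⊢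
  omega

theorem NS.add_of_mem (hK : IsFunctionField k K) {D A : Divisor k K} {u : K} (hu : u ∈ L A) (hu0 : u ≠ 0)
    (hD : NS D) : NS (D + A) := by
  have hle : D ≤ D + A + FunFld.div k u := fun P => by
    have := (mem_L_iff_ord hu0).1 hu P
    rw [div_eq hK.1, Finsupp.add_apply]
    omega
  have := NS.mono hK hle hD
  rw [NS] at this ⊢
  rw [ell_add_div hK.1 _ hu0, Divisor.deg_add, deg_div hK.1, add_zero] at this
  exact this

theorem mul_mem {A B : Divisor k K} {x y : K} (hx : x ∈ L A) (hy : y ∈ L B) : x * y ∈ L (A + B) := fun P => by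
  rw [map_mul, Finsupp.add_apply, exp_add]
  exact mul_le_mul' (hx P) (hy P)

theorem val_le_of_mul {P : Place k K} {x y : K} {b c : ℤ} (hy : P.1 y = exp b) (h : P.1 (x * y) ≤ exp c) :
    P.1 x ≤ exp (c - b) := by
  rw [map_mul, hy] at h
  have h' := mul_le_mul_left h (exp (-b))
  rwa [mul_assoc, ← exp_add, ← exp_add, add_neg_cancel, exp_zero, mul_one, ← sub_eq_add_neg] at h'

theorem L_le {D E : Divisor k K} (h : ∀ P, D P ≤ E P) {x : K} (hx : x ∈ L D) : x ∈ L E := L_mono (fun P => h P) hx

section Pair

variable (hK : IsFunctionField k K) {A B G : Divisor k K} {u v : K}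

include hK in
/-- Two sections without common zero generate the nonspecial range. -/
theorem pair (hu : u ∈ L A) (hv : v ∈ L B) (hu0 : u ≠ 0) (hv0 : v ≠ 0)
    (hbp : ∀ P : Place k K, P.1 u = exp (A P) ∨ P.1 v = exp (B P)) (hG : NS G) {f : K}
    (hf : f ∈ L (G + A + B)) : ∃ p ∈ L (G + B), ∃ q ∈ L (G + A), u * p + v * q = f := by
  have := L_finite hK.1 G
  have := L_finite hK.1 (G + A)
  have := L_finite hK.1 (G + B)
  have := L_finite hK.1 (G + A + B)
  let ψ : (L (G + B) × L (G + A)) →ₗ[k] L (G + A + B) :=
    { toFun := fun z => ⟨u * z.1.1 + v * z.2.1, add_mem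
        (by rw [show G + A + B = A + (G + B) by abel]; exact mul_mem hu z.1.2)
        (by rw [show G + A + B = B + (G + A) by abel]; exact mul_mem hv z.2.2)⟩
      map_add' := fun z w => Subtype.ext (by simp only [Prod.fst_add, Prod.snd_add, Submodule.coe_add]; ring)
      map_smul' := fun c z => Subtype.ext (by
        simp only [Prod.smul_fst, Prod.smul_snd, Submodule.coe_smul, RingHom.id_apply, mul_smul_comm, smul_add]) }
  let j : L G →ₗ[k] (L (G + B) × L (G + A)) :=
    { toFun := fun z => (⟨v * z.1, by rw [add_comm G B]; exact mul_mem hv z.2⟩,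
        ⟨-(u * z.1), neg_mem (by rw [add_comm G A]; exact mul_mem hu z.2)⟩)
      map_add' := fun z w => Prod.ext (Subtype.ext (by simp [mul_add])) (Subtype.ext (by simp [mul_add]; ring))
      map_smul' := fun c z => Prod.ext (Subtype.ext (by simp [mul_smul_comm]))
        (Subtype.ext (by simp [mul_smul_comm])) }
  have hj : Function.Injective j := fun z w h => Subtype.ext
    (mul_left_cancel₀ hv0 (congrArg (fun t : L (G + B) × L (G + A) => t.1.1) h))
  have hker : LinearMap.ker ψ = LinearMap.range j := by
    refine le_antisymm (fun z hz => ?_) ?_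
    · have hz' : u * z.1.1 + v * z.2.1 = 0 := congrArg Subtype.val (LinearMap.mem_ker.1 hz)
      have hw : z.1.1 / v ∈ L G := fun P => by
        rcases hbp P with hP | hP
        · have he : z.1.1 / v * u = -z.2.1 := by
            field_simp
            linear_combination hz'
          have h := val_le_of_mul hP (c := (G + A) P) (x := z.1.1 / v) (by rw [he]; exact neg_mem z.2.2 P)
          simpa using h
        · have h := val_le_of_mul hP (c := (G + B) P) (x := z.1.1 / v)
            (by rw [div_mul_cancel₀ _ hv0]; exact z.1.2 P)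
          simpa using h
      refine ⟨⟨_, hw⟩, Prod.ext (Subtype.ext (mul_div_cancel₀ _ hv0)) (Subtype.ext ?_)⟩
      show -(u * (z.1.1 / v)) = z.2.1
      field_simp
      linear_combination -hz'
    · rintro _ ⟨z, rfl⟩
      refine LinearMap.mem_ker.2 (Subtype.ext ?_)
      show u * (v * z.1) + v * -(u * z.1) = 0
      ring
  have h1 := LinearMap.finrank_range_add_finrank_ker ψ
  rw [hker, LinearMap.finrank_range_of_inj hj, Module.finrank_prod] at h1
  have hA := hG.add_of_mem hK hu hu0
  have hB := hG.add_of_mem hK hv hv0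
  have hAB := hA.add_of_mem hK hv hv0
  simp only [NS, ell, Divisor.deg_add] at hG hA hB hAB
  have htop : LinearMap.range ψ = ⊤ := Submodule.eq_top_of_finrank_eq (by omega)
  obtain ⟨z, hz⟩ := LinearMap.range_eq_top.1 htop ⟨f, hf⟩
  exact ⟨_, z.1.2, _, z.2.2, congrArg Subtype.val hz⟩

end Pair

section Systems

variable {n : ℕ}

/-- `x` generates `L(G + D)` over `L(G)`. -/
def Gen1 (D : Divisor k K) (x : Fin n → K) (G : Divisor k K) : Prop :=
  ∀ f ∈ L (G + D), ∃ a : Fin n → K, (∀ l, a l ∈ L G) ∧ ∑ l, x l * a l = f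

/-- Relations among `x` with coefficients in `L(G + D)` are Koszul. -/
def Gen2 (D : Divisor k K) (x : Fin n → K) (G : Divisor k K) : Prop :=
  ∀ a : Fin n → K, (∀ l, a l ∈ L (G + D)) → ∑ l, x l * a l = 0 →
    ∃ c : Fin n → Fin n → K, (∀ l m, c l m ∈ L G) ∧ ∀ l, a l = ∑ m, (c l m - c m l) * x m

theorem Gen1.linear {D G : Divisor k K} {x x' : Fin n → K} (T : Matrix (Fin n) (Fin n) k)
    (hx : ∀ p, x' p = ∑ m, T p m • x m) (h : Gen1 D x' G) : Gen1 D x G := fun f hf => by
  obtain ⟨a, ha, rfl⟩ := h f hf
  refine ⟨fun m => ∑ p, T p m • a p, fun m => sum_mem fun p _ => Submodule.smul_mem _ _ (ha p), ?_⟩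
  simp only [hx, Finset.mul_sum, Finset.sum_mul, mul_smul_comm, smul_mul_assoc]
  exact Finset.sum_comm

theorem Gen2.linear {D G : Divisor k K} {x x' : Fin n → K} (S T : Matrix (Fin n) (Fin n) k)
    (hx : ∀ p, x' p = ∑ m, T p m • x m) (hST : S * T = 1) (h : Gen2 D x' G) : Gen2 D x G := fun a ha hrel => by
  let a' : Fin n → K := fun p => ∑ l, S l p • a l
  have hback : ∀ m, ∑ p, T p m • a' p = a m := fun m => by
    simp only [a', Finset.smul_sum, smul_smul]
    rw [Finset.sum_comm, Finset.sum_eq_single m]
    · rw [← Finset.sum_smul]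
      rw [show ∑ p, T p m * S m p = (S * T) m m by
        rw [Matrix.mul_apply]; exact Finset.sum_congr rfl fun p _ => mul_comm _ _]
      simp [hST]
    · intro l _ hl
      rw [← Finset.sum_smul, show ∑ p, T p m * S l p = (S * T) l m by
        rw [Matrix.mul_apply]; exact Finset.sum_congr rfl fun p _ => mul_comm _ _]
      simp [hST, hl]
    · simp
  obtain ⟨c, hc, hca⟩ := h a' (fun p => sum_mem fun l _ => Submodule.smul_mem _ _ (ha l)) (by
    simp only [hx, Finset.sum_mul, smul_mul_assoc]
    rw [Finset.sum_comm]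
    refine Eq.trans (Finset.sum_congr rfl fun m _ => ?_) hrel
    simp only [← mul_smul_comm, ← Finset.mul_sum, hback])
  refine ⟨fun l m => ∑ p, ∑ q, (T p l * T q m) • c p q,
    fun l m => sum_mem fun p _ => sum_mem fun q _ => Submodule.smul_mem _ _ (hc p q), fun l => ?_⟩
  rw [← hback l]
  simp only [hca, hx, Finset.mul_sum, Finset.smul_sum, sub_mul, Finset.sum_mul, smul_sub,
    Finset.sum_sub_distrib]
  congr 1
  · conv_lhs => enter [2, p]; rw [Finset.sum_comm]
    rw [Finset.sum_comm]
    refine Finset.sum_congr rfl fun m _ => Finset.sum_congr rfl fun p _ => Finset.sum_congr rfl fun q _ => ?_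
    rw [mul_smul_comm, smul_smul, smul_mul_assoc]
  · conv_lhs => enter [2, p]; rw [Finset.sum_comm]
    rw [Finset.sum_comm]
    refine Finset.sum_congr rfl fun m _ => ?_
    conv_rhs => rw [Finset.sum_comm]
    refine Finset.sum_congr rfl fun p _ => Finset.sum_congr rfl fun q _ => ?_
    rw [mul_smul_comm, smul_smul, smul_mul_assoc, mul_comm]

theorem Gen1.perm {D G : Divisor k K} {x : Fin n → K} (σ : Equiv.Perm (Fin n)) (h : Gen1 D (x ∘ σ) G) :
    Gen1 D x G := fun f hf => by
  obtain ⟨a, ha, rfl⟩ := h f hf
  exact ⟨a ∘ σ.symm, fun l => ha _, Fintype.sum_equiv σ.symm _ _ (by simp)⟩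

theorem Gen2.perm {D G : Divisor k K} {x : Fin n → K} (σ : Equiv.Perm (Fin n)) (h : Gen2 D (x ∘ σ) G) :
    Gen2 D x G := fun a ha hrel => by
  obtain ⟨c, hc, hca⟩ := h (a ∘ σ) (fun l => ha _)
    ((Fintype.sum_equiv σ _ (fun l => x l * a l) (by simp)).trans hrel)
  refine ⟨fun l m => c (σ.symm l) (σ.symm m), fun l m => hc _ _, fun l => ?_⟩
  have := hca (σ.symm l)
  simp only [Function.comp_apply, Equiv.apply_symm_apply] at this
  exact this.trans (Fintype.sum_equiv σ _ _ (by simp))

variable (hK : IsFunctionField k K) {D E G : Divisor k K} {y : K} {w : Fin n → K}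

include hK in
theorem step1 (hE : 0 ≤ E) (hy : y ∈ L D) (hy0 : y ≠ 0)
    (hEy : ∀ P : Place k K, P.1 y = exp (D P) ∨ E P = 0) (hG : NS (G - E))
    (h1 : Gen1 (D - E) w G) : Gen1 D (Fin.cons y w) G := fun f hf => by
  obtain ⟨p, hp, q, hq, hpq⟩ := pair hK hy (L_le (fun P => hE P) (by simp [mem_L] : (1 : K) ∈ L (0 : Divisor k K)))
    hy0 one_ne_zero (fun P => (hEy P).imp id fun h => by simp [h]) hG
    (by rwa [show G - E + D + E = G + D by abel])
  rw [sub_add_cancel] at hp
  obtain ⟨a, ha, hab⟩ := h1 q (by rwa [show G + (D - E) = G - E + D by abel])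
  refine ⟨Fin.cons p a, fun l => ?_, ?_⟩
  · cases l using Fin.cases with
    | zero => simpa using hp
    | succ i => simpa using ha i
  · rw [Fin.sum_univ_succ]
    simp only [Fin.cons_zero, Fin.cons_succ, hab]
    linear_combination hpq

include hK in
theorem step2 (hE : 0 ≤ E) (hy : y ∈ L D) (hy0 : y ≠ 0)
    (hEy : ∀ P : Place k K, P.1 y = exp (D P) ∨ E P = 0) (hw : ∀ l, w l ∈ L (D - E)) (hG : NS (G - E))
    (h1 : Gen1 (D - E) w G) (h1' : Gen1 (D - E) w (G - E)) (h2 : Gen2 (D - E) w G) :
    Gen2 D (Fin.cons y w) G := fun a ha hrel => by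
  have hrel' : y * a 0 + ∑ l, w l * a l.succ = 0 := by rwa [Fin.sum_univ_succ] at hrel
  -- the coefficient of `y`
  have ha0 : a 0 ∈ L (G + (D - E)) := fun P => by
    rcases hEy P with hP | hP
    · have hs : y * a 0 ∈ L (G + D + (D - E)) := by
        rw [show y * a 0 = -∑ l, w l * a l.succ by linear_combination hrel']
        exact neg_mem (sum_mem fun l _ => by rw [mul_comm]; exact mul_mem (ha _) (hw l))
      refine (val_le_of_mul hP (by rw [mul_comm]; exact hs P)).trans (le_of_eq ?_)
      congr 1
      simp only [Finsupp.add_apply, Finsupp.sub_apply]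
      ring
    · refine (ha 0 P).trans (le_of_eq ?_)
      simp only [Finsupp.add_apply, Finsupp.sub_apply, hP, sub_zero]
  obtain ⟨c, hc, hca⟩ := h1 (a 0) ha0
  -- remove it
  let a' : Fin n → K := fun l => a l.succ + c l * y
  have hrel1 : ∑ l, w l * a' l = 0 := by
    simp only [a', mul_add, Finset.sum_add_distrib]
    rw [show ∑ l, w l * (c l * y) = y * a 0 by
      rw [← hca, Finset.mul_sum]; exact Finset.sum_congr rfl fun l _ => by ring]
    linear_combination hrel'
  have ha' : ∀ l, a' l ∈ L (G + D) := fun l => add_mem (ha _) (mul_mem (hc l) hy)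
  -- split off multiples of `y`
  have hsplit : ∀ l, ∃ d ∈ L G, ∃ q ∈ L (G + (D - E)), y * d + q = a' l := fun l => by
    obtain ⟨p, hp, q, hq, hpq⟩ := pair hK hy (L_le (fun P => hE P) (by simp [mem_L] : (1 : K) ∈ L (0 : Divisor k K)))
      hy0 one_ne_zero (fun P => (hEy P).imp id fun h => by simp [h]) hG
      (by rw [show G - E + D + E = G + D by abel]; exact ha' l)
    rw [sub_add_cancel] at hp
    rw [show G - E + D = G + (D - E) by abel] at hq
    exact ⟨p, hp, q, hq, by linear_combination hpq⟩
  choose d hd q hq hdq using hsplit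
  have hsum : y * ∑ l, w l * d l = -∑ l, w l * q l := by
    rw [eq_neg_iff_add_eq_zero, Finset.mul_sum, ← Finset.sum_add_distrib]
    refine Eq.trans (Finset.sum_congr rfl fun l _ => ?_) hrel1
    rw [← hdq]; ring
  have hp : ∑ l, w l * d l ∈ L (G - E + (D - E)) := fun P => by
    rcases hEy P with hP | hP
    · have hs : y * ∑ l, w l * d l ∈ L (G + (D - E) + (D - E)) := by
        rw [hsum]
        exact neg_mem (sum_mem fun l _ => by rw [mul_comm]; exact mul_mem (hq l) (hw l))
      refine (val_le_of_mul hP (by rw [mul_comm]; exact hs P)).trans (le_of_eq ?_)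
      congr 1
      simp only [Finsupp.add_apply, Finsupp.sub_apply]
      ring
    · refine ((sum_mem fun l _ => mul_mem (hw l) (hd l) : ∑ l, w l * d l ∈ L (D - E + G)) P).trans (le_of_eq ?_)
      congr 1
      simp only [Finsupp.add_apply, Finsupp.sub_apply, hP]
      ring
  obtain ⟨e, he, hew⟩ := h1' _ hp
  have hd' : ∀ l, d l - e l ∈ L G := fun l => sub_mem (hd l) (L_le (fun P => by
    have := hE P; simp at this ⊢; omega) (he l))
  obtain ⟨C, hC, hCa⟩ := h2 (fun l => q l + y * e l)
    (fun l => add_mem (hq l) (L_le (fun P => le_of_eq (by simp; ring)) (mul_mem hy (he l)))) (by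
      simp only [mul_add, Finset.sum_add_distrib]
      rw [show ∑ l, w l * (y * e l) = y * ∑ l, w l * d l by
        rw [← hew, Finset.mul_sum]; exact Finset.sum_congr rfl fun l _ => by ring, hsum]
      ring)
  let f : Fin n → K := fun l => d l - e l - c l
  refine ⟨fun l m => Fin.cases (motive := fun _ => K) 0 (fun i => Fin.cases (motive := fun _ => K) (f i) (fun j => C i j) m) l,
    fun l m => ?_, fun l => ?_⟩
  · cases l using Fin.cases with
    | zero => exact zero_mem _
    | succ i =>
      cases m using Fin.cases with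
      | zero => exact sub_mem (hd' i) (hc i)
      | succ j => exact hC i j
  · cases l using Fin.cases with
    | zero =>
      rw [Fin.sum_univ_succ]
      simp only [Fin.cases_zero, Fin.cases_succ, Fin.cons_succ, sub_self, zero_mul, zero_add, zero_sub]
      rw [← hca]
      have h0 : ∑ l, w l * (d l - e l) = 0 := by
        simp only [mul_sub, Finset.sum_sub_distrib, hew, sub_self]
      have : ∑ l, (-(f l) * w l) = ∑ l, w l * c l - ∑ l, w l * (d l - e l) := by
        rw [← Finset.sum_sub_distrib]
        exact Finset.sum_congr rfl fun l _ => by simp only [f]; ring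
      rw [this, h0, sub_zero]
    | succ i =>
      rw [Fin.sum_univ_succ]
      simp only [Fin.cases_zero, Fin.cases_succ, Fin.cons_succ, Fin.cons_zero, sub_zero]
      rw [← hCa i]
      have := hdq i
      simp only [f, a'] at this ⊢
      linear_combination -this

end Systems

section Main

variable (hK : IsFunctionField k K) (hdeg : ∀ P : Place k K, P.deg = 1)

include hK hdeg in
theorem exists_residue (P : Place k K) {x y : K} {n : ℤ} (hy : P.1 y = exp n) (hx : P.1 x ≤ exp n) :
    ∃ c : k, P.1 (x - c • y) ≤ exp (n - 1) := by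
  have hy0 : y ≠ 0 := fun h => exp_ne_zero (hy.symm.trans (by rw [h, map_zero]))
  have hfin : FiniteDimensional k (Res P) := residue_finite hK.1 P
  have hsurj : Function.Surjective (Algebra.linearMap k (Res P)) :=
    (LinearMap.injective_iff_surjective_of_finrank_eq_finrank (K := k) (V := k) (V₂ := Res P)
      ((Module.finrank_self k).trans (hdeg P).symm)).1 (algebraMap k (Res P)).injective
  let r : P.O := ⟨x / y, by
    show P.1 (x / y) ≤ 1
    rw [map_div₀, hy]
    exact div_le_one_of_le₀ hx zero_le⟩
  obtain ⟨c, hc⟩ := hsurj (IsLocalRing.residue P.O r)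
  refine ⟨c, ?_⟩
  have h := (residue_eq_zero P (r - algebraMap k P.O c)).1 (by
    rw [map_sub, ← hc]; exact sub_self _)
  rw [← lt_exp_iff_le_exp_pred]
  have h' : P.1 (x / y - algebraMap k K c) < 1 := h
  have : x - c • y = (x / y - algebraMap k K c) * y := by
    rw [Algebra.smul_def, sub_mul, div_mul_cancel₀ _ hy0]
  rw [this, map_mul, hy]
  exact mul_lt_of_lt_one_left (zero_lt_iff.2 exp_ne_zero) h'

/-- Hypothesis for generation. -/
def Hyp1 (Q : List (Divisor k K)) (G : Divisor k K) : Prop := ∀ q ∈ Q, NS (G + q)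

/-- Hypothesis for the relations. -/
def Hyp2 (Q : List (Divisor k K)) (G : Divisor k K) : Prop :=
  Hyp1 Q G ∧ Q.Pairwise fun p q => NS (G + p + q)

include hK hdeg in
theorem exists_system : ∀ (n : ℕ) (D : Divisor k K) (x : Fin (n + 1) → K), LinearIndependent k x →
    (∀ l, x l ∈ L D) → (∀ P : Place k K, ∃ l, P.1 (x l) = exp (D P)) →
    ∃ Q : List (Divisor k K), Q.length = n ∧ (∀ q ∈ Q, q.deg ≤ -1) ∧
      (Q.map Divisor.deg).sum = -D.deg ∧
      (∀ G, Hyp1 Q G → Gen1 D x G) ∧ (∀ G, Hyp2 Q G → Gen2 D x G) := by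
  intro n
  induction n with
  | zero =>
    intro D x hx hxD hbp
    have h0 : x 0 ≠ 0 := hx.ne_zero 0
    have hv : ∀ P : Place k K, P.1 (x 0) = exp (D P) := fun P => by
      obtain ⟨l, hl⟩ := hbp P
      rwa [Fin.eq_zero l] at hl
    have hD : D + FunFld.div k (x 0) = 0 := Finsupp.ext fun P => by
      rw [div_eq hK.1, Finsupp.zero_apply, ord_of_val_eq P (n := -(D P)) (by rw [neg_neg]; exact hv P), add_neg_cancel]
    refine ⟨[], rfl, by simp, ?_, fun G _ f hf => ?_, fun G _ a _ hrel => ?_⟩
    · have := congrArg Divisor.deg hD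
      rw [Divisor.deg_add, deg_div hK.1, add_zero, Divisor.deg_zero] at this
      simp [this]
    · refine ⟨fun _ => f / x 0, fun _ P => ?_, by rw [Fin.sum_univ_one, mul_div_cancel₀ _ h0]⟩
      refine (val_le_of_mul (hv P) (x := f / x 0) (by rw [div_mul_cancel₀ _ h0]; exact hf P)).trans (le_of_eq ?_)
      simp
    · refine ⟨fun _ _ => 0, fun _ _ => zero_mem _, fun l => ?_⟩
      rw [Fin.sum_univ_one] at hrel ⊢
      rw [Fin.eq_zero l, (mul_eq_zero.1 hrel).resolve_left h0]
      simp
  | succ n ih =>
    intro D x hx hxD hbp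
    obtain ⟨P₀⟩ := exists_place hK.1
    obtain ⟨l₀, hl₀⟩ := hbp P₀
    let σ : Equiv.Perm (Fin (n + 2)) := Equiv.swap 0 l₀
    let x₁ : Fin (n + 2) → K := x ∘ σ
    have hy : P₀.1 (x₁ 0) = exp (D P₀) := by simpa [x₁, σ] using hl₀
    choose cc hcc using fun l : Fin (n + 1) => exists_residue hK hdeg P₀ hy (hxD (σ l.succ) P₀)
    let y : K := x₁ 0
    let w : Fin (n + 1) → K := fun l => x₁ l.succ - cc l • y
    let N : Matrix (Fin (n + 2)) (Fin (n + 2)) k :=
      Matrix.of fun p m => if m = 0 then Fin.cases (motive := fun _ => k) 0 cc p else 0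
    have hNN : N * N = 0 := by
      ext p m
      rw [Matrix.mul_apply, Matrix.zero_apply]
      refine Finset.sum_eq_zero fun q _ => ?_
      rcases eq_or_ne q 0 with rfl | hq
      · simp [N]
      · simp [N, hq]
    have hST : (1 + N) * (1 - N) = 1 := by
      rw [mul_sub, add_mul, add_mul, hNN]; simp
    have hxx : ∀ p, Fin.cons (α := fun _ => K) y w p = ∑ m, (1 - N) p m • x₁ m := by
      intro p
      simp only [Matrix.sub_apply, sub_smul, Finset.sum_sub_distrib, Matrix.one_apply, ite_smul, one_smul,
        zero_smul, Finset.sum_ite_eq, Finset.mem_univ, if_true, N, Matrix.of_apply, Finset.sum_ite_eq']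
      cases p using Fin.cases <;> simp [y, w]
    have hind : LinearIndependent k (Fin.cons (α := fun _ => K) y w) := by
      have h1 : LinearIndependent k x₁ := hx.comp _ σ.injective
      rw [Fintype.linearIndependent_iff] at h1 ⊢
      intro g hg p
      have hm : ∀ m, ∑ q, g q * (1 - N) q m = 0 := h1 _ (by
        simp only [hxx, Finset.smul_sum, smul_smul] at hg
        rw [Finset.sum_comm] at hg
        simpa only [Finset.sum_smul] using hg)
      have hv : Matrix.vecMul g (1 - N) = 0 := funext hm
      have := congrArg (fun v => Matrix.vecMul v (1 + N)) hv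
      simp only [Matrix.vecMul_vecMul, Matrix.zero_vecMul] at this
      rw [show (1 - N) * (1 + N) = 1 by rw [sub_mul, mul_add, mul_add, hNN]; simp, Matrix.vecMul_one] at this
      exact congrFun this p
    have hw0 : ∀ l, w l ≠ 0 := fun l => by simpa using hind.ne_zero l.succ
    have hy0 : y ≠ 0 := by simpa using hind.ne_zero 0
    have hwD : ∀ l, w l ∈ L D := fun l => sub_mem (hxD _) (Submodule.smul_mem _ _ (hxD _))
    let e : Place k K → ℤ := fun P =>
      Finset.univ.inf' Finset.univ_nonempty fun l : Fin (n + 1) => P.ord (w l) + D P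
    have he0 : ∀ P, 0 ≤ e P := fun P => Finset.le_inf' _ _ fun l _ => by
      have := (mem_L_iff_ord (hw0 l)).1 (hwD l) P; omega
    have hefin : (Function.support e).Finite := by
      refine ((D + FunFld.div k (w 0)).finite_support).subset fun P hP => ?_
      have h1 : e P ≤ P.ord (w 0) + D P := Finset.inf'_le _ (Finset.mem_univ _)
      have h2 := he0 P
      show (D + FunFld.div k (w 0)) P ≠ 0
      rw [div_eq hK.1]
      have : e P ≠ 0 := hP
      omega
    let E : Divisor k K := Finsupp.ofSupportFinite e hefin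
    have hE : 0 ≤ E := fun P => he0 P
    have hwE : ∀ l, w l ∈ L (D - E) := fun l => (mem_L_iff_ord (hw0 l)).2 fun P => by
      have h1 : e P ≤ P.ord (w l) + D P := Finset.inf'_le _ (Finset.mem_univ _)
      show -(D P - e P) ≤ _
      omega
    have hbw : ∀ P : Place k K, ∃ l, P.1 (w l) = exp ((D - E) P) := fun P => by
      obtain ⟨l, -, hl⟩ := Finset.exists_mem_eq_inf' (Finset.univ_nonempty (α := Fin (n + 1)))
        fun l => P.ord (w l) + D P
      refine ⟨l, (val_eq_exp P (hw0 l)).trans (congrArg exp ?_)⟩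
      show _ = D P - e P
      simp only [e]
      rw [hl]
      ring
    have hEy : ∀ P : Place k K, P.1 y = exp (D P) ∨ E P = 0 := fun P => by
      refine or_iff_not_imp_right.2 fun hne => ?_
      have hall : ∀ l, P.1 (w l) < exp (D P) := fun l => by
        rw [val_eq_exp P (hw0 l), exp_lt_exp]
        have h1 : e P ≤ P.ord (w l) + D P := Finset.inf'_le _ (Finset.mem_univ _)
        have h2 : e P ≠ 0 := hne
        have := he0 P
        omega
      refine le_antisymm (hxD _ P) ?_
      by_contra hlt
      push Not at hlt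
      obtain ⟨l, hl⟩ := hbp P
      have hl' : P.1 (x₁ (σ.symm l)) = exp (D P) := by simpa [x₁] using hl
      revert hl'
      generalize σ.symm l = l'
      intro hl'
      cases l' using Fin.cases with
      | zero => exact absurd hl' hlt.ne
      | succ i =>
        refine absurd hl' (ne_of_lt ?_)
        rw [show x₁ i.succ = w i + cc i • y by simp [w]]
        refine (P.1.map_add _ _).trans_lt (max_lt (hall i) ?_)
        rw [Algebra.smul_def, map_mul]
        exact (mul_le_of_le_one_left' (P.2.1 _)).trans_lt hlt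
    have hE1 : 1 ≤ E.deg := by
      have hP0 : Finsupp.single P₀ 1 ≤ E := by
        intro P
        rcases eq_or_ne P P₀ with rfl | hne
        · rw [Finsupp.single_eq_same]
          refine Finset.le_inf' (Finset.univ_nonempty (α := Fin (n + 1))) (fun l => P.ord (w l) + D P) fun l _ => ?_
          have := (hcc l)
          rw [show x (σ l.succ) - cc l • x₁ 0 = w l from rfl, val_eq_exp _ (hw0 l), exp_le_exp] at this
          omega
        · rw [Finsupp.single_eq_of_ne hne]
          exact he0 P
      have := Divisor.deg_mono hP0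
      rwa [Divisor.deg_single, hdeg, Nat.cast_one, mul_one] at this
    obtain ⟨Q, hlen, hneg, hsum, h1, h2⟩ := ih (D - E) w
      (hind.comp Fin.succ (Fin.succ_injective _)) hwE hbw
    refine ⟨-E :: Q, by simp [hlen], fun q hq => ?_, ?_, fun G hG => ?_, fun G hG => ?_⟩
    · rcases List.mem_cons.1 hq with rfl | hq
      · rw [Divisor.deg_neg]; omega
      · exact hneg q hq
    · rw [List.map_cons, List.sum_cons, hsum, Divisor.deg_neg, Divisor.deg_sub]; ring
    · refine Gen1.perm σ (Gen1.linear _ hxx (step1 hK hE (hxD _) hy0 hEy ?_ (h1 G fun q hq => hG q (by simp [hq]))))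
      simpa [sub_eq_add_neg] using hG (-E) (by simp)
    · obtain ⟨hs, hp⟩ := hG
      rw [List.pairwise_cons] at hp
      refine Gen2.perm σ (Gen2.linear _ _ hxx hST (step2 hK hE (hxD _) hy0 hEy hwE ?_
        (h1 G fun q hq => hs q (by simp [hq])) (h1 (G - E) fun q hq => ?_)
        (h2 G ⟨fun q hq => hs q (by simp [hq]), hp.2⟩)))
      · simpa [sub_eq_add_neg] using hs (-E) (by simp)
      · simpa [sub_eq_add_neg] using hp.1 q hq

include hK hdeg in
/-- A divisor of small degree making finitely many translates nonspecial. -/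
theorem exists_divisor {ι : Type*} [Finite ι] (R : ι → Divisor k K) (e : ℤ) (hR : ∀ i, e ≤ (R i).deg) :
    ∀ (N : ℕ) (a : ℤ), (genus k K : ℤ) - 1 ≤ a + e → 2 * (genus k K : ℤ) - 2 < a + e + N →
      ∃ A : Divisor k K, A.deg = a ∧ ∀ i, NS (A + R i) := by
  obtain ⟨P₀⟩ := exists_place hK.1
  intro N
  induction N with
  | zero =>
    intro a _ ha
    refine ⟨Finsupp.single P₀ a, by rw [Divisor.deg_single, hdeg, Nat.cast_one, mul_one], fun i => ?_⟩
    refine ell_of_deg_gt hK ?_
    rw [Divisor.deg_add, Divisor.deg_single, hdeg, Nat.cast_one, mul_one]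
    have := hR i
    omega
  | succ N ih =>
    intro a ha haN
    obtain ⟨A, hA, hNS⟩ := ih (a + 1) (by omega) (by push_cast at haN; omega)
    have hex : ∀ i, ∃ f ∈ L (A + R i), f ≠ 0 := fun i => by
      refine (Submodule.ne_bot_iff _).1 fun hbot => ?_
      have h := hNS i
      rw [NS, ell, hbot, finrank_bot, Divisor.deg_add] at h
      have := hR i
      omega
    choose f hf hf0 using hex
    have hbad : (⋃ i, (((A + R i) + FunFld.div k (f i)).support : Set (Place k K))).Finite :=
      Set.finite_iUnion fun i => Finset.finite_toSet _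
    obtain ⟨P, -, hP⟩ := ((infinite_places' hK.1).sdiff hbad).nonempty
    simp only [Set.mem_iUnion, not_exists, Finset.mem_coe, Finsupp.notMem_support_iff, div_eq hK.1] at hP
    refine ⟨A - Finsupp.single P 1, ?_, fun i => ?_⟩
    · rw [Divisor.deg_sub, Divisor.deg_single, hdeg, hA]; simp
    rw [show A - Finsupp.single P 1 + R i = A + R i - Finsupp.single P 1 by abel]
    have hle : A + R i - Finsupp.single P 1 ≤ A + R i :=
      sub_le_self _ (Finsupp.single_nonneg.2 zero_le_one)
    have hnot : f i ∉ L (A + R i - Finsupp.single P 1) := fun h => by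
      have h' := (mem_L_iff_ord (hf0 i)).1 h P
      have := hP i
      simp only [Finsupp.sub_apply, Finsupp.single_eq_same] at h'
      omega
    have := L_finite hK.1 (A + R i)
    have hlt : L (A + R i - Finsupp.single P 1) < L (A + R i) :=
      lt_of_le_of_ne (L_mono hle) fun h => hnot (h ▸ hf i)
    have h1 := Submodule.finrank_lt_finrank_of_lt hlt
    have h2 := riemann hK.1 (A + R i - Finsupp.single P 1)
    have h3 := hNS i
    simp only [NS, ell, Divisor.deg_sub, Divisor.deg_single, hdeg, Nat.cast_one, mul_one] at h1 h2 h3 ⊢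
    omega

end Main

end Groth.Agent.GLP
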