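import Groth.Agent.FittX.Ideal
import Mathlib.LinearAlgebra.Matrix.Block
import Mathlib.LinearAlgebra.Matrix.ToLinearEquiv
import Mathlib.RingTheory.Ideal.Maximal

/-!
# Minors of the relations of a tuple in a field which is locally monogenous
-/

set_option autoImplicit false

universe u v

namespace Groth.Agent.GLP

open Module

variable {B : Type u} [CommRing B] {K : Type v} [Field K] (θ : B →+* K) {m : ℕ}

theorem minors_le_ker {Z : Submodule B (Fin m → B)} {n : Fin m → K} (hn : n ≠ 0)
    (hZ : ∀ z ∈ Z, ∑ j, θ (z j) * n j = 0) : FittX.minors m Z ≤ RingHom.ker θ := by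
  rw [← Submodule.span_eq Z]
  refine FittX.minors_le_of_span (FittX.span_proj m) fun f hf z hz => ?_
  choose l hl using hf
  rw [RingHom.mem_ker, FittX.minor, RingHom.map_det]
  by_cases hinj : Function.Injective l
  · obtain ⟨j, hj⟩ := Function.ne_iff.1 hn
    refine Matrix.exists_mulVec_eq_zero_iff.1 ⟨n ∘ l, ?_, funext fun b => ?_⟩
    · obtain ⟨c, hc⟩ := (Finite.injective_iff_surjective.1 hinj) j
      exact Function.ne_iff.2 ⟨c, by simpa [hc] using hj⟩
    · show ∑ c, (θ.mapMatrix (Matrix.of fun b a => f a (z b))) b c * (n ∘ l) c = 0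
      refine Eq.trans (Finset.sum_congr rfl fun c _ => ?_)
        ((Fintype.sum_equiv (Equiv.ofBijective l (Finite.injective_iff_bijective.1 hinj)) _
          (fun j => θ (z b j) * n j) fun c => rfl).trans (hZ _ (hz b)))
      simp [← hl c]
  · obtain ⟨c, c', hcc, hne⟩ := Function.not_injective_iff.1 hinj
    exact Matrix.det_zero_of_column_eq hne fun b => by simp [← hl c, ← hl c', hcc]

theorem det_pivot (j₀ : Fin m) (s a : B) (β : Fin m → B) :
    (Matrix.of fun b c : Fin m => if b = j₀ then (if c = j₀ then a else 0) else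
      (if c = b then s else if c = j₀ then β b else 0)).det = a * s ^ (m - 1) := by
  obtain ⟨m, rfl⟩ : ∃ m', m = m' + 1 := ⟨m - 1, by have := j₀.pos; omega⟩
  let σ : Equiv.Perm (Fin (m + 1)) := Equiv.swap 0 j₀
  have hσ : ∀ i, σ i = j₀ ↔ i = 0 := fun i => by
    rw [← σ.injective.eq_iff (a := i), show σ 0 = j₀ from Equiv.swap_apply_left _ _]
  rw [← Matrix.det_submatrix_equiv_self σ, ← Matrix.det_transpose, Matrix.det_of_isUpperTriangular]
  · rw [Fin.prod_univ_succ]
    simp [hσ, Fin.succ_ne_zero]
  · intro i j hij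
    have hne : σ i ≠ σ j := fun h => (ne_of_gt hij) (σ.injective h)
    have hi0 : i ≠ 0 := (Fin.pos_of_ne_zero fun h => by simp [h] at hij) |>.ne'
    simp [hσ, hi0, hne]

theorem ker_le_minors {Z : Submodule B (Fin m → B)} {n : Fin m → K}
    (hZ : ∀ z : Fin m → B, ∑ j, θ (z j) * n j = 0 → z ∈ Z)
    (hloc : ∀ M : Ideal B, M.IsMaximal → RingHom.ker θ ≤ M →
      ∃ (j₀ : Fin m) (s : B), s ∉ M ∧ ∀ j, ∃ b, θ s * n j = θ b * n j₀) :
    RingHom.ker θ ≤ FittX.minors m Z := by
  intro a ha
  let J := FittX.minors m Z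
  let f : Fin m → Dual B (Fin m → B) := fun l => LinearMap.proj l
  suffices H : Submodule.colon J {a} = ⊤ by
    have h1 : (1 : B) ∈ Submodule.colon J {a} := by rw [H]; trivial
    simpa [Submodule.mem_colon_singleton] using h1
  by_contra hne
  obtain ⟨M, hM, hle⟩ := Ideal.exists_le_maximal _ hne
  by_cases hker : RingHom.ker θ ≤ M
  · obtain ⟨j₀, s, hs, hb⟩ := hloc M hM hker
    choose β hβ using hb
    let z : Fin m → Fin m → B := fun b c => if b = j₀ then (if c = j₀ then a else 0) else
      (if c = b then s else if c = j₀ then -β b else 0)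
    have hz : ∀ b, z b ∈ Z := fun b => hZ _ (by
      by_cases hbj : b = j₀
      · simp [z, hbj, ite_mul, apply_ite θ, RingHom.mem_ker.1 ha]
      · rw [Finset.sum_eq_add_sum_sdiff_singleton_of_mem (Finset.mem_univ b),
          Finset.sum_eq_single j₀ (fun c hc hcj => by
            simp only [Finset.mem_sdiff, Finset.mem_singleton] at hc
            simp [z, hbj, hc.2, hcj]) (fun h => by simp [Ne.symm hbj] at h)]
        simp [z, hbj, Ne.symm hbj, hβ b])
    have hmem : a * s ^ (m - 1) ∈ J := by
      have h := FittX.minor_mem f hz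
      have hdet : FittX.minor f z = a * s ^ (m - 1) :=
        (congrArg Matrix.det (rfl : (Matrix.of fun b c => f c (z b)) = Matrix.of z)).trans (det_pivot j₀ s a fun b => -β b)
      rwa [hdet] at h
    have hc : s ^ (m - 1) ∈ Submodule.colon J {a} :=
      Submodule.mem_colon_singleton.2 (by rw [smul_eq_mul, mul_comm]; exact hmem)
    exact hs (hM.isPrime.mem_of_pow_mem _ (hle hc))
  · obtain ⟨c, hc, hcM⟩ := Set.not_subset.1 hker
    let z : Fin m → Fin m → B := fun b l => if l = b then c else 0
    have hz : ∀ b, z b ∈ Z := fun b => hZ _ (by simp [z, apply_ite θ, ite_mul, RingHom.mem_ker.1 hc])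
    have hmem : c ^ m ∈ J := by
      have h := FittX.minor_mem f hz
      have hdet : FittX.minor f z = c ^ m := by
        refine (congrArg Matrix.det (?_ : (Matrix.of fun b l => f l (z b)) = Matrix.diagonal fun _ => c)).trans (by simp)
        ext b l
        rcases eq_or_ne b l with rfl | h
        · simp [f, z]
        · simp [f, z, h, h.symm]
      rwa [hdet] at h
    exact hcM (hM.isPrime.mem_of_pow_mem m
      (hle (Submodule.mem_colon_singleton.2 (by rw [smul_eq_mul]; exact Ideal.mul_mem_right _ _ hmem))))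

end Groth.Agent.GLP
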