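import Groth.Agent.GLP.Alg
import Groth.Agent.ComodLib.GradedAug
import Groth.Prelude.Def_CohB1
import Mathlib.RingTheory.MvPolynomial.Homogeneous

/-!
# Relations of the module of sections of `A + tD` over the polynomial ring
-/

set_option autoImplicit false
set_option linter.style.haveILetI false
set_option linter.unusedSectionVars false

universe u

namespace Groth.Agent.GLP

open FunFld Groth.Agent.FFLib MvPolynomial

variable {k K : Type u} [Field k] [Field K] [Algebra k K] {r m : ℕ}

theorem isHomogeneous_decomp {t : ℕ} {p : MvPolynomial (Fin (r + 1)) k} (hp : p.IsHomogeneous (t + 1)) :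
    ∃ g : Fin (r + 1) → MvPolynomial (Fin (r + 1)) k, (∀ l, (g l).IsHomogeneous t) ∧ ∑ l, X l * g l = p := by
  classical
  suffices H : ∀ s : Finset (Fin (r + 1) →₀ ℕ), (∀ d ∈ s, coeff d p ≠ 0) →
      ∃ g : Fin (r + 1) → MvPolynomial (Fin (r + 1)) k, (∀ l, (g l).IsHomogeneous t) ∧
        ∑ l, X l * g l = ∑ d ∈ s, monomial d (coeff d p) by
    obtain ⟨g, hg, hsum⟩ := H p.support fun d hd => mem_support_iff.1 hd
    exact ⟨g, hg, hsum.trans p.as_sum.symm⟩
  intro s hs
  induction s using Finset.induction with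
  | empty => exact ⟨fun _ => 0, fun _ => isHomogeneous_zero _ _ _, by simp⟩
  | insert d s hd ih =>
    obtain ⟨g, hg, hsum⟩ := ih fun e he => hs e (Finset.mem_insert_of_mem he)
    have hdeg : d.degree = t + 1 := by
      by_contra hne
      exact hs d (Finset.mem_insert_self d s) (hp.coeff_eq_zero hne)
    obtain ⟨l, hl⟩ : ∃ l, d l ≠ 0 := by
      by_contra h
      push Not at h
      rw [show d = 0 from Finsupp.ext h] at hdeg
      simp at hdeg
    have hd' : Finsupp.single l 1 + (d - Finsupp.single l 1) = d := by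
      ext i
      by_cases hi : i = l
      · subst hi; simp; omega
      · simp [hi, Ne.symm hi]
    refine ⟨Function.update g l (g l + monomial (d - Finsupp.single l 1) (coeff d p)), fun i => ?_, ?_⟩
    · rcases eq_or_ne i l with rfl | hi
      · rw [Function.update_self]
        refine (hg i).add (isHomogeneous_monomial _ ?_)
        have := congrArg Finsupp.degree hd'
        rw [map_add, Finsupp.degree_single, hdeg] at this
        omega
      · rw [Function.update_of_ne hi]; exact hg i
    · rw [Finset.sum_insert hd, ← hsum, Finset.sum_eq_add_sum_sdiff_singleton_of_mem (Finset.mem_univ l)]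
      conv_rhs => rw [Finset.sum_eq_add_sum_sdiff_singleton_of_mem (Finset.mem_univ l)]
      rw [Function.update_self, mul_add, X, monomial_mul, one_mul, hd']
      rw [Finset.sum_congr rfl fun i hi => by
        rw [Function.update_of_ne (by simpa using hi)]]
      abel

/-- The value of a vector of forms. -/
noncomputable def val (x : Fin (r + 1) → K) (a : Fin m → K) (V : Fin m → MvPolynomial (Fin (r + 1)) k) : K :=
  ∑ j, aeval x (V j) * a j

variable (x : Fin (r + 1) → K) (a : Fin m → K)

theorem val_add (V W : Fin m → MvPolynomial (Fin (r + 1)) k) : val x a (V + W) = val x a V + val x a W := by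
  simp [val, add_mul, Finset.sum_add_distrib]

theorem val_sub (V W : Fin m → MvPolynomial (Fin (r + 1)) k) : val x a (V - W) = val x a V - val x a W := by
  simp [val, sub_mul, Finset.sum_sub_distrib]

theorem val_smul (p : MvPolynomial (Fin (r + 1)) k) (V : Fin m → MvPolynomial (Fin (r + 1)) k) :
    val x a (p • V) = aeval x p * val x a V := by
  simp [val, Finset.mul_sum, mul_assoc]

theorem val_sum {ι : Type*} (s : Finset ι) (V : ι → Fin m → MvPolynomial (Fin (r + 1)) k) :
    val x a (∑ i ∈ s, V i) = ∑ i ∈ s, val x a (V i) := by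
  classical
  induction s using Finset.induction with
  | empty => simp [val]
  | insert i s hi ih => rw [Finset.sum_insert hi, Finset.sum_insert hi, val_add, ih]

variable {x a} {A D : Divisor k K}

theorem aeval_mem {t : ℕ} {p : MvPolynomial (Fin (r + 1)) k} (hx : ∀ l, x l ∈ L D)
    (hp : p.IsHomogeneous t) : aeval x p ∈ L (t • D) := by
  induction t generalizing p with
  | zero =>
    rw [show p = C (coeff 0 p) from totalDegree_eq_zero_iff_eq_C.1 (Nat.le_zero.1 hp.totalDegree_le), aeval_C,
      Algebra.algebraMap_eq_smul_one, zero_smul]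
    exact Submodule.smul_mem _ _ fun P => by simp
  | succ t ih =>
    obtain ⟨g, hg, rfl⟩ := isHomogeneous_decomp hp
    rw [map_sum]
    refine sum_mem fun l _ => ?_
    rw [map_mul, aeval_X, succ_nsmul']
    exact mul_mem (hx l) (ih (hg l))

theorem val_mem {t : ℕ} {V : Fin m → MvPolynomial (Fin (r + 1)) k} (hx : ∀ l, x l ∈ L D) (ha : ∀ j, a j ∈ L A)
    (hV : ∀ j, (V j).IsHomogeneous t) : val x a V ∈ L (A + t • D) :=
  sum_mem fun j _ => by rw [add_comm]; exact mul_mem (aeval_mem hx (hV j)) (ha j)

theorem exists_val_eq (hx : ∀ l, x l ∈ L D) (hspan : Submodule.span k (Set.range a) = L A)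
    (hgen : ∀ t : ℕ, Gen1 D x (A + t • D)) : ∀ (t : ℕ) (f : K), f ∈ L (A + t • D) →
      ∃ V : Fin m → MvPolynomial (Fin (r + 1)) k, (∀ j, (V j).IsHomogeneous t) ∧ val x a V = f := by
  intro t
  induction t with
  | zero =>
    intro f hf
    rw [zero_smul, add_zero, ← hspan, Submodule.mem_span_range_iff_exists_fun] at hf
    obtain ⟨c, rfl⟩ := hf
    exact ⟨fun j => C (c j), fun j => isHomogeneous_C _ _, by simp [val, Algebra.smul_def]⟩
  | succ t ih =>
    intro f hf
    rw [succ_nsmul, ← add_assoc] at hf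
    obtain ⟨g, hg, rfl⟩ := hgen t f hf
    choose V hV hVg using fun l => ih (g l) (hg l)
    refine ⟨∑ l, (X l : MvPolynomial (Fin (r + 1)) k) • V l, fun j => ?_, ?_⟩
    · rw [Finset.sum_apply]
      refine IsHomogeneous.sum _ _ _ fun l _ => ?_
      rw [Pi.smul_apply, smul_eq_mul, add_comm t 1]
      exact (isHomogeneous_X k l).mul (hV l j)
    · rw [val_sum]
      exact Finset.sum_congr rfl fun l _ => by rw [val_smul, aeval_X, hVg]

/-- Relations are generated by the linear ones. -/
theorem mem_span_linear (hx : ∀ l, x l ∈ L D) (ha : ∀ j, a j ∈ L A)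
    (hspan : Submodule.span k (Set.range a) = L A)
    (hgen : ∀ t : ℕ, Gen1 D x (A + t • D)) (hrel : ∀ t : ℕ, Gen2 D x (A + t • D)) :
    ∀ (t : ℕ) (V : Fin m → MvPolynomial (Fin (r + 1)) k), (∀ j, (V j).IsHomogeneous (t + 1)) → val x a V = 0 →
      V ∈ Submodule.span (MvPolynomial (Fin (r + 1)) k)
        {W : Fin m → MvPolynomial (Fin (r + 1)) k | (∀ j, (W j).IsHomogeneous 1) ∧ val x a W = 0} := by
  intro t
  induction t with
  | zero => exact fun V hV h0 => Submodule.subset_span ⟨hV, h0⟩
  | succ t ih =>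
    intro V hV h0
    choose g hg hgV using fun j => isHomogeneous_decomp (hV j)
    let G : Fin (r + 1) → Fin m → MvPolynomial (Fin (r + 1)) k := fun l j => g j l
    have hVG : V = ∑ l, (X l : MvPolynomial (Fin (r + 1)) k) • G l := funext fun j => by
      rw [Finset.sum_apply, ← hgV j]; rfl
    let b : Fin (r + 1) → K := fun l => val x a (G l)
    obtain ⟨c, hc, hcb⟩ := hrel t b (fun l => by
        have h := val_mem (V := G l) hx ha (fun j => hg j l)
        rwa [succ_nsmul, ← add_assoc] at h) (by
      rw [← h0, hVG, val_sum]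
      exact Finset.sum_congr rfl fun l _ => by rw [val_smul, aeval_X])
    choose Cc hCc hCv using fun l m' => exists_val_eq hx hspan hgen t (c l m') (hc l m')
    let h : Fin (r + 1) → Fin m → MvPolynomial (Fin (r + 1)) k :=
      fun l => G l - ∑ q, (X q : MvPolynomial (Fin (r + 1)) k) • (Cc l q - Cc q l)
    have hsum : ∑ l, (X l : MvPolynomial (Fin (r + 1)) k) • h l = V := by
      simp only [h, smul_sub, Finset.sum_sub_distrib, Finset.smul_sum, smul_smul]
      rw [← hVG]
      have hsymm : ∑ l : Fin (r + 1), ∑ q : Fin (r + 1), ((X l * X q : MvPolynomial (Fin (r + 1)) k) • Cc q l) =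
          ∑ l, ∑ q, ((X l * X q : MvPolynomial (Fin (r + 1)) k) • Cc l q) := by
        rw [Finset.sum_comm]
        exact Finset.sum_congr rfl fun l _ => Finset.sum_congr rfl fun q _ => by rw [mul_comm (X q)]
      rw [hsymm, sub_self, sub_zero]
    rw [← hsum]
    refine sum_mem fun l _ => Submodule.smul_mem _ _ (ih (h l) (fun j => ?_) ?_)
    · simp only [h, Pi.sub_apply, Finset.sum_apply, Pi.smul_apply, smul_eq_mul]
      refine (hg j l).sub (IsHomogeneous.sum _ _ _ fun q _ => ?_)
      rw [add_comm t 1]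
      exact (isHomogeneous_X k q).mul ((hCc l q j).sub (hCc q l j))
    · simp only [h, val_sub, val_sum, val_smul, aeval_X, hCv]
      show b l - _ = 0
      rw [sub_eq_zero, hcb l]
      exact Finset.sum_congr rfl fun q _ => mul_comm _ _

/-- A linear presentation. -/
theorem exists_matrix (hK : IsFunctionField k K) (hx : ∀ l, x l ∈ L D) (hx0 : x 0 ≠ 0) (ha : ∀ j, a j ∈ L A)
    (hspan : Submodule.span k (Set.range a) = L A) {Q : List (Divisor k K)} (hA : Hyp2 Q A)
    (h1 : ∀ G, Hyp1 Q G → Gen1 D x G) (h2 : ∀ G, Hyp2 Q G → Gen2 D x G) :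
    ∃ (n : ℕ) (M : Fin m → Fin n → MvPolynomial (Fin (r + 1)) k), (∀ j i, (M j i).IsHomogeneous 1) ∧
      (∀ i, val x a (fun j => M j i) = 0) ∧
      ∀ (t : ℕ) (V : Fin m → MvPolynomial (Fin (r + 1)) k), (∀ j, (V j).IsHomogeneous (t + 1)) → val x a V = 0 →
        V ∈ Submodule.span (MvPolynomial (Fin (r + 1)) k) (Set.range fun i j => M j i) := by
  have hshift : ∀ (t : ℕ) (R : Divisor k K), NS (A + R) → NS (A + t • D + R) := by
    intro t
    induction t with
    | zero => simp
    | succ t ih =>
      intro R hR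
      have := (ih R hR).add_of_mem hK (hx 0) hx0
      rwa [show A + t • D + R + D = A + (t + 1) • D + R by rw [succ_nsmul]; abel] at this
  have hA' : ∀ t : ℕ, Hyp2 Q (A + t • D) := fun t =>
    ⟨fun q hq => hshift t q (hA.1 q hq), hA.2.imp fun {p q} h => by
      rw [add_assoc] at h ⊢
      exact hshift t _ h⟩
  have hgen : ∀ t : ℕ, Gen1 D x (A + t • D) := fun t => h1 _ (hA' t).1
  have hrel : ∀ t : ℕ, Gen2 D x (A + t • D) := fun t => h2 _ (hA' t)
  obtain ⟨hfin, -⟩ := ComodLib.GradedAug.finrank_homogeneous (k := k) (r + 1) 1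
  haveI : Module.Finite k (homogeneousSubmodule (Fin (r + 1)) k 1) := hfin
  let φ : (Fin m → homogeneousSubmodule (Fin (r + 1)) k 1) →ₗ[k] K :=
    ∑ j, (LinearMap.mulRight k (a j)) ∘ₗ (aeval x).toLinearMap ∘ₗ (homogeneousSubmodule (Fin (r + 1)) k 1).subtype ∘ₗ
      LinearMap.proj j
  have hφ : ∀ V, φ V = val x a (fun j => (V j).1) := fun V => by simp [φ, val]
  letI : AddCommGroup (LinearMap.ker φ) := Submodule.addCommGroup _
  haveI : Module.Free k (LinearMap.ker φ) := Module.Free.of_divisionRing k _
  let b := Module.finBasis k (LinearMap.ker φ)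
  refine ⟨_, fun j i => ((b i).1 j).1, fun j i => ((b i).1 j).2, fun i => (hφ _).symm.trans (b i).2,
    fun t V hV h0 => Submodule.span_le.2 ?_ (mem_span_linear hx ha hspan hgen hrel t V hV h0)⟩
  rintro W ⟨hW, hW0⟩
  let w : LinearMap.ker φ := ⟨fun j => ⟨W j, hW j⟩, (hφ _).trans hW0⟩
  have hw := congrArg (fun z : LinearMap.ker φ => fun j => (z.1 j).1) (b.sum_repr w)
  simp only [Submodule.coe_sum, Submodule.coe_smul, Finset.sum_apply, Pi.smul_apply] at hw
  have hW' : W = ∑ i, (C (b.repr w i) : MvPolynomial (Fin (r + 1)) k) • fun j => ((b i).1 j).1 := by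
    funext j
    rw [Finset.sum_apply, show W j = (w.1 j).1 from rfl, ← congrFun hw j]
    refine Finset.sum_congr rfl fun i _ => ?_
    simp [smul_eq_C_mul]
  rw [SetLike.mem_coe, hW']
  exact sum_mem fun i _ => Submodule.smul_mem _ _ (Submodule.subset_span ⟨i, rfl⟩)

end Groth.Agent.GLP
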