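import Groth.Agent.GLP.Curve
import Groth.Agent.GLP.Graded
import Groth.Agent.GLP.Fitt
import Groth.Agent.EagonN.Main

/-!
# The presentation of a line bundle on a curve in projective space
-/

set_option autoImplicit false
set_option linter.style.haveILetI false
set_option linter.unusedSectionVars false
set_option backward.isDefEq.respectTransparency false
set_option backward.isDefEq.respectTransparency.types false
set_option synthInstance.maxHeartbeats 400000
set_option maxHeartbeats 1600000

universe u

open CategoryTheory CategoryTheory.Limits AlgebraicGeometry TopologicalSpace Opposite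
open Groth.Agent.PnCoh.Finite Groth.Agent.EagonN
open Groth.Agent.CurveCohLib.Polar (InR)

noncomputable section

namespace Groth.Agent.GLP

open Groth.Agent

attribute [local instance] CurveFF.ffAlg

section Chart

variable (k : Type u) [Field k] (r : ℕ) {m n : ℕ}

/-- The morphism `O(-1)^n ⟶ O^m` of a matrix of linear forms. -/
def linHom (L : Fin m → Fin n → MvPolynomial (Fin (r + 1)) k) :
    EagonN.Src k r n ⟶ FlatMod.freeMod (Proj (CohB1.polyGrading r k)) m :=
  Sigma.desc fun j => ∑ l, mh (𝒜 := CohB1.polyGrading r k) 1 (L l j) _ 0 EagonN.deg_one ≫ unitInv k r ≫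
    Sigma.ι (fun _ : Fin m => Coh.structureModule (Proj (CohB1.polyGrading r k))) l

theorem linHom_spec (L : Fin m → Fin n → MvPolynomial (Fin (r + 1)) k) (l : Fin m) (j : Fin n) :
    (Sigma.ι (fun _ : Fin n => Twist.twist (CohB1.polyGrading r k) (-((1 : ℕ) : ℤ))) j ≫ linHom k r L ≫
      coproj (Coh.structureModule (Proj (CohB1.polyGrading r k))) l) ≫ oneHom =
        mh (𝒜 := CohB1.polyGrading r k) 1 (L l j) _ 0 EagonN.deg_one := by
  rw [← Category.assoc (Sigma.ι _ j), linHom, Sigma.ι_desc, Preadditive.sum_comp, Preadditive.sum_comp,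
    Finset.sum_eq_single l]
  · simp only [Category.assoc]
    rw [← Category.assoc (Sigma.ι _ l), ι_coproj, if_pos rfl, Category.id_comp, unitInv_oneHom]
    exact Category.comp_id _
  · intro t _ ht
    simp only [Category.assoc]
    rw [← Category.assoc (Sigma.ι _ t), ι_coproj, if_neg ht, zero_comp, comp_zero, comp_zero]
  · simp

theorem dehom_eq_mk (c : Fin (r + 1)) {t : ℕ} {p : MvPolynomial (Fin (r + 1)) k} (hp : p.IsHomogeneous t)
    (hp' : p ∈ CohB1.polyGrading r k (t • 1)) : ZetaLib.dehom r k c p =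
      HomogeneousLocalization.Away.mk (CohB1.polyGrading r k) (ZetaLib.X_mem_one r k c) t p hp' := by
  refine HomogeneousLocalization.val_injective _ ?_
  have hu : IsUnit (algebraMap (MvPolynomial (Fin (r + 1)) k)
      (Localization (Submonoid.powers (MvPolynomial.X c : MvPolynomial (Fin (r + 1)) k))) (MvPolynomial.X c) ^ t) :=
    (IsLocalization.map_units _ (⟨MvPolynomial.X c, 1, pow_one _⟩ :
      Submonoid.powers (MvPolynomial.X c : MvPolynomial (Fin (r + 1)) k))).pow t
  refine hu.mul_left_injective ?_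
  show _ * _ = _ * _
  rw [ZetaLib.val_dehom_mul r k c hp, HomogeneousLocalization.Away.val_mk,
    ← map_pow, ← Localization.mk_one_eq_algebraMap, ← Localization.mk_one_eq_algebraMap,
    Localization.mk_mul, Localization.mk_eq_mk_iff, Localization.r_iff_exists]
  exact ⟨1, by simp [mul_comm]⟩

theorem exists_rep (c : Fin (r + 1))
    (z : Γ(Proj (CohB1.polyGrading r k), Proj.basicOpen (CohB1.polyGrading r k) (MvPolynomial.X c))) :
    ∃ (t : ℕ) (p : MvPolynomial (Fin (r + 1)) k), p.IsHomogeneous t ∧
      (Proj.awayToSection (CohB1.polyGrading r k) (MvPolynomial.X c)).hom (ZetaLib.dehom r k c p) = z := by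
  haveI : IsIso (Proj.awayToSection (CohB1.polyGrading r k) (MvPolynomial.X c)) :=
    inferInstanceAs (IsIso (Proj.basicOpenIsoAway (CohB1.polyGrading r k) (MvPolynomial.X c)
      (ZetaLib.X_mem_one r k c) Nat.one_pos).hom)
  obtain ⟨q, hq⟩ := (ConcreteCategory.bijective_of_isIso
    (Proj.awayToSection (CohB1.polyGrading r k) (MvPolynomial.X c))).2 z
  obtain ⟨t, p, hp, rfl⟩ := HomogeneousLocalization.Away.mk_surjective (CohB1.polyGrading r k) (ZetaLib.X_mem_one r k c) q
  have hp' : p.IsHomogeneous t := by simpa using hp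
  exact ⟨t, p, hp', (congrArg _ (dehom_eq_mk k r c hp' hp)).trans hq⟩

theorem evalAt_psi (c : Fin (r + 1)) {p : MvPolynomial (Fin (r + 1)) k} (hp : p ∈ CohB1.polyGrading r k 1)
    (x : (Proj.basicOpen (CohB1.polyGrading r k) (MvPolynomial.X c) : (Proj (CohB1.polyGrading r k)).Opens)) :
    evalAt x ((Proj.awayToSection (CohB1.polyGrading r k) (MvPolynomial.X c)).hom (ZetaLib.dehom r k c p)) =
      fracHom x.1 p * (Localization.mk 1 ⟨MvPolynomial.X c, x.2⟩ : Twist.Loc (CohB1.polyGrading r k) x.1) := by
  have e := dehom_eq_mk k r c ((MvPolynomial.mem_homogeneousSubmodule 1 p).1 hp) (by rwa [one_smul])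
  rw [e]
  refine (ProjectiveSpectrum.Proj.awayToSection_apply (𝒜 := CohB1.polyGrading r k) (MvPolynomial.X c)
    (HomogeneousLocalization.Away.mk (CohB1.polyGrading r k) (ZetaLib.X_mem_one r k c) 1 p (by rwa [one_smul])) x).trans ?_
  rw [HomogeneousLocalization.Away.val_mk, Localization.mk_eq_mk', IsLocalization.map_mk', ← Localization.mk_eq_mk',
    fracHom, ← Localization.mk_one_eq_algebraMap, Localization.mk_mul, Localization.mk_eq_mk_iff,
    Localization.r_iff_exists]
  exact ⟨1, by simp⟩

variable (L : Fin m → Fin n → MvPolynomial (Fin (r + 1)) k) (hL : ∀ l j, L l j ∈ CohB1.polyGrading r k 1)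

include hL in
/-- On a standard chart the Fitting ideal is the ideal of minors of the dehomogenised matrix. -/
theorem ideal_chart (c : Fin (r + 1)) :
    (Fitt.sheafIdeal (cokernel (linHom k r L)) 0).ideal
        ⟨Proj.basicOpen (CohB1.polyGrading r k) (MvPolynomial.X c),
          Proj.isAffineOpen_basicOpen _ _ (ZetaLib.X_mem_one r k c) Nat.one_pos⟩ =
      FittX.minors m (Submodule.span Γ(Proj (CohB1.polyGrading r k), Proj.basicOpen (CohB1.polyGrading r k) (MvPolynomial.X c))
        (Set.range fun j l => (Proj.awayToSection (CohB1.polyGrading r k) (MvPolynomial.X c)).hom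
          (ZetaLib.dehom r k c (L l j)))) := by
  let φ := linHom k r L
  let U : (Proj (CohB1.polyGrading r k)).Opens := Proj.basicOpen (CohB1.polyGrading r k) (MvPolynomial.X c)
  have hU : TwistX.NonVan (𝒜 := CohB1.polyGrading r k) (MvPolynomial.X c) U := fun x => x.2
  have hUa : IsAffineOpen U := Proj.isAffineOpen_basicOpen _ _ (ZetaLib.X_mem_one r k c) Nat.one_pos
  have hf := MvPolynomial.isHomogeneous_X k c
  have hS := EagonN.isCoh_sum k r (Fin n) (-((1 : ℕ) : ℤ))
  have hF := EagonN.isCoh_free k r (m := m)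
  have hC := QCoh.isQCoh_cokernel hS.1 hF.1 φ
  let s : Fin n → Γ(EagonN.Src k r n, U) := fun j => genS k r 1 c hU j
  have hs : Submodule.span Γ(Proj (CohB1.polyGrading r k), U) (Set.range s) = ⊤ :=
    span_ι _ U _ (gen_spans hf 1 hU)
  have hval : ∀ j, coord U (φ.app U (s j)) = fun l => (Proj.awayToSection (CohB1.polyGrading r k) (MvPolynomial.X c)).hom
      (ZetaLib.dehom r k c (L l j)) := fun j => funext fun l => evalAt_ext fun x => by
    refine (evalAt_gen hf 1 hU (hL l j) EagonN.deg_one _ (linHom_spec k r L l j) x).trans ?_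
    rw [fracOne_eq, pow_one]
    exact (evalAt_psi k r c (hL l j) x).symm
  rw [FittX.sheafIdeal_ideal hC (QCoh.isCoh_cokernel hS.1 hF φ).2 0 ⟨U, hUa⟩]
  let π := cokernel.π φ
  let e := LinearEquiv.ofBijective (coord (X := Proj (CohB1.polyGrading r k)) (m := m) U) (coord_bijective U)
  let p : (Fin m → Γ(Proj (CohB1.polyGrading r k), U)) →ₗ[Γ(Proj (CohB1.polyGrading r k), U)] Γ(cokernel φ, U) :=
    EagonN.appLin π U ∘ₗ e.symm.toLinearMap
  have hp : Function.Surjective p := (QCoh.app_surjective_of_epi hF.1 hC π hUa).comp e.symm.surjective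
  let z : Fin m → Γ(cokernel φ, U) := fun l => p (Pi.single l 1)
  have hz : Submodule.span Γ(Proj (CohB1.polyGrading r k), U) (Set.range z) = ⊤ := by
    have h1 := (Pi.basisFun Γ(Proj (CohB1.polyGrading r k), U) (Fin m)).span_eq
    rw [show Set.range z = p '' Set.range (Pi.basisFun Γ(Proj (CohB1.polyGrading r k), U) (Fin m)) by
      rw [← Set.range_comp]; exact congrArg Set.range (funext fun l => by simp [z]), Submodule.span_image, h1,
      Submodule.map_top, LinearMap.range_eq_top.2 hp]
  have hlc : ∀ v, Fintype.linearCombination Γ(Proj (CohB1.polyGrading r k), U) z v = p v := fun v => by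
    refine LinearMap.congr_fun (LinearMap.pi_ext' fun l => LinearMap.ext_ring ?_) v
    simp [z, Fintype.linearCombination_apply, Pi.single_apply]
  have hrel : FittX.rel (R := Γ(Proj (CohB1.polyGrading r k), U)) z = Submodule.span Γ(Proj (CohB1.polyGrading r k), U)
      (Set.range fun j => coord U (φ.app U (s j))) := by
    apply le_antisymm
    · intro v hv
      have hv' : π.app U (e.symm v) = 0 := (hlc v).symm.trans hv
      obtain ⟨w, hw⟩ := exists_preimage φ π (cokernel.condition φ) (ShortComplex.exact_cokernel φ) hS.1 hF.1 hC hUa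
        (e.symm v) hv'
      have hws : w ∈ Submodule.span Γ(Proj (CohB1.polyGrading r k), U) (Set.range s) := hs ▸ trivial
      have hce : v = coord U (φ.app U w) := by rw [hw]; exact (e.apply_symm_apply v).symm
      rw [hce]
      have h2 := Submodule.mem_map_of_mem (f := coord U ∘ₗ EagonN.appLin φ U) hws
      rw [← Submodule.span_image, ← Set.range_comp] at h2
      exact h2
    · rw [Submodule.span_le]
      rintro _ ⟨j, rfl⟩
      show Fintype.linearCombination Γ(Proj (CohB1.polyGrading r k), U) z _ = 0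
      rw [hlc]
      show π.app U (e.symm (e (φ.app U (s j)))) = 0
      rw [e.symm_apply_apply]
      exact congrArg (fun f : EagonN.Src k r n ⟶ cokernel φ => f.app U (s j)) (cokernel.condition φ)
  refine (FittX.ideal_eq_minors z hz 0).trans ?_
  rw [Nat.sub_zero, hrel, funext hval]

end Chart

section Curve

variable {k : Type u} [Field k] [IsAlgClosed k] {r m n : ℕ} {X : Scheme.{u}}
  [X.Over (Spec (CommRingCat.of k))] [IsIntegral X] [IsProper (X ↘ Spec (CommRingCat.of k))]
  [Smooth (X ↘ Spec (CommRingCat.of k))] (hdim : topologicalKrullDim X = 1)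
  (i : X ⟶ CohB1.ProjSpace r k) [IsClosedImmersion i]

include k hdim in
/-- On an affine open a tuple of rational functions is locally monogenous. -/
theorem exists_local {V : X.Opens} (hV : IsAffineOpen V) (hη : genericPoint X ∈ V) (M : Ideal Γ(X, V))
    (hM : M.IsPrime) {a : Fin m → X.functionField} (hm : 0 < m) (ha : ∀ j, a j ≠ 0) :
    ∃ (j₀ : Fin m) (s : Γ(X, V)), s ∉ M ∧ ∀ j, ∃ b : Γ(X, V),
      X.presheaf.germ V _ hη s * a j = X.presheaf.germ V _ hη b * a j₀ := by
  classical
  let y : PrimeSpectrum Γ(X, V) := ⟨M, hM⟩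
  let p : X := hV.fromSpec y
  have hp : p ∈ V := hV.range_fromSpec.le ⟨y, rfl⟩
  letI : Algebra Γ(X, V) (X.presheaf.stalk p) := TopCat.Presheaf.algebra_section_stalk X.presheaf ⟨p, hp⟩
  haveI : IsLocalization.AtPrime (X.presheaf.stalk p) M := hV.isLocalization_stalk' y hp
  obtain ⟨j₀, hj₀⟩ : ∃ j₀, ∀ j, InR p (a j / a j₀) := by
    rcases CurveFF.eq_or_isClosed k X hdim p with h | h
    · exact ⟨⟨0, hm⟩, fun j => by rw [h]; exact ⟨_, CurveFF.algebraMap_generic X _⟩⟩
    · haveI : Nonempty (Fin m) := ⟨⟨0, hm⟩⟩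
      let P := CurveFF.pl k X hdim ⟨p, h⟩
      obtain ⟨j₀, -, hj₀⟩ := Finset.exists_max_image (Finset.univ : Finset (Fin m)) (fun j => P.1 (a j)) Finset.univ_nonempty
      refine ⟨j₀, fun j => (CurveFF.inR_iff k X hdim ⟨p, h⟩ _).2 ?_⟩
      show P.1 (a j / a j₀) ≤ 1
      rw [map_div₀]
      exact div_le_one_of_le₀ (hj₀ j (Finset.mem_univ _)) zero_le
  have hgerm : ∀ b : Γ(X, V), algebraMap (X.presheaf.stalk p) X.functionField (algebraMap Γ(X, V) (X.presheaf.stalk p) b) =
      X.presheaf.germ V _ hη b := fun b =>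
    TopCat.Presheaf.germ_stalkSpecializes_apply (F := X.presheaf) (hy := hp)
      ((genericPoint_spec X).specializes (Set.mem_univ p)) b
  choose g hg using fun j => hj₀ j
  choose w hw using fun j => IsLocalization.surj M.primeCompl (g j)
  refine ⟨j₀, ∏ j, ((w j).2 : Γ(X, V)), fun hmem => ?_, fun j => ⟨(w j).1 * ∏ l ∈ Finset.univ.erase j, ((w l).2 : Γ(X, V)), ?_⟩⟩
  · obtain ⟨l, -, hl⟩ := hM.prod_mem_iff.1 hmem
    exact (w l).2.2 hl
  · have h1 := congrArg (algebraMap (X.presheaf.stalk p) X.functionField) (hw j)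
    rw [map_mul, hgerm, hgerm, hg j] at h1
    rw [← Finset.mul_prod_erase _ _ (Finset.mem_univ j), map_mul, map_mul, ← h1]
    field_simp [ha j₀]

include hdim in
theorem ker_le_ideal (c : Fin (r + 1)) (h : genericPoint X ∈ i ⁻¹ᵁ LefPen.chart r k c)
    {x : Fin (r + 1) → X.functionField} (hx : x c ≠ 0)
    (hθ : ∀ p, theta i c h (psi k r c p) = MvPolynomial.aeval (fun l => x l / x c) p)
    {a : Fin m → X.functionField} (hm : 0 < m) (ha : ∀ j, a j ≠ 0)
    (L : Fin m → Fin n → MvPolynomial (Fin (r + 1)) k) (hL : ∀ l j, (L l j).IsHomogeneous 1)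
    (hL0 : ∀ j, val x a (fun l => L l j) = 0)
    (hgen : ∀ (t : ℕ) (V : Fin m → MvPolynomial (Fin (r + 1)) k), (∀ j, (V j).IsHomogeneous (t + 1)) → val x a V = 0 →
        V ∈ Submodule.span (MvPolynomial (Fin (r + 1)) k) (Set.range fun j l => L l j)) :
    FittX.minors m (Submodule.span Γ(CohB1.ProjSpace r k, LefPen.chart r k c)
        (Set.range fun j l => psi k r c (L l j))) = RingHom.ker (theta i c h) := by
  classical
  have hscale : ∀ {t : ℕ} {p : MvPolynomial (Fin (r + 1)) k}, p.IsHomogeneous t →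
      MvPolynomial.aeval x p = x c ^ t * theta i c h (psi k r c p) := by
    intro t p hp
    rw [hθ, MvPolynomial.aeval_def, MvPolynomial.aeval_def]
    exact ProjPt.eval₂Hom_scale (algebraMap k X.functionField) (fun l => x l / x c) x (x c)
      (fun l => (mul_div_cancel₀ _ hx).symm) hp
  have hval : ∀ {t : ℕ} (V : Fin m → MvPolynomial (Fin (r + 1)) k), (∀ j, (V j).IsHomogeneous t) →
      val x a V = x c ^ t * ∑ j, theta i c h (psi k r c (V j)) * a j := by
    intro t V hV
    rw [val, Finset.mul_sum]
    exact Finset.sum_congr rfl fun j _ => by rw [hscale (hV j), mul_assoc]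
  have hane : a ≠ 0 := fun e => ha ⟨0, hm⟩ (congrFun e _)
  refine le_antisymm (minors_le_ker _ hane fun z hz => ?_) (ker_le_minors (n := a) _ (fun z hz => ?_) fun M hM hker => ?_)
  · induction hz using Submodule.span_induction with
    | mem z hz =>
      obtain ⟨j, rfl⟩ := hz
      have h0 := hL0 j
      rw [hval (t := 1) _ (fun l => hL l j)] at h0
      exact (mul_eq_zero.1 h0).resolve_left (pow_ne_zero _ hx)
    | zero => simp
    | add u v _ _ hu hv => simp only [Pi.add_apply, map_add, add_mul, Finset.sum_add_distrib, hu, hv, add_zero]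
    | smul b u _ hu => simp only [Pi.smul_apply, smul_eq_mul, map_mul, mul_assoc, ← Finset.mul_sum, hu, mul_zero]
  · have hrep : ∀ j, ∃ (t : ℕ) (p : MvPolynomial (Fin (r + 1)) k), p.IsHomogeneous t ∧ psi k r c p = z j :=
      fun j => exists_rep k r c (z j)
    choose t p hp hpz using hrep
    let T := Finset.univ.sup t
    let V : Fin m → MvPolynomial (Fin (r + 1)) k := fun j => MvPolynomial.X c ^ (T + 1 - t j) * p j
    have hV : ∀ j, (V j).IsHomogeneous (T + 1) := fun j => by
      have := (MvPolynomial.isHomogeneous_X_pow (R := k) c (T + 1 - t j)).mul (hp j)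
      rwa [Nat.sub_add_cancel ((Finset.le_sup (Finset.mem_univ j)).trans (Nat.le_succ T))] at this
    have hVz : ∀ j, psi k r c (V j) = z j := fun j => by
      rw [map_mul, map_pow, psi_X_self, one_pow, one_mul, hpz]
    have hV0 : val x a V = 0 := by
      rw [hval V hV]
      simp only [hVz, hz, mul_zero]
    have hmem := hgen T V hV hV0
    have key : ∀ W ∈ Submodule.span (MvPolynomial (Fin (r + 1)) k) (Set.range fun j l => L l j),
        (fun j => psi k r c (W j)) ∈ Submodule.span Γ(CohB1.ProjSpace r k, LefPen.chart r k c)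
          (Set.range fun j l => psi k r c (L l j)) := fun W hW => by
      induction hW using Submodule.span_induction with
      | mem W hW => obtain ⟨j, rfl⟩ := hW; exact Submodule.subset_span ⟨j, rfl⟩
      | zero =>
        rw [show (fun j : Fin m => psi k r c ((0 : Fin m → MvPolynomial (Fin (r + 1)) k) j)) = 0 from funext fun j => map_zero _]
        exact Submodule.zero_mem _
      | add u v _ _ hu hv => simpa [Pi.add_def] using Submodule.add_mem _ hu hv
      | smul b u _ hu =>
        convert Submodule.smul_mem _ (psi k r c b) hu using 1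
        funext j
        simp
    simpa only [hVz] using key V hmem
  · have hsurj : Function.Surjective (i.app (LefPen.chart r k c)).hom :=
      i.app_surjective _ (LefPenLib.chartAff c).2
    have hVaff : IsAffineOpen (i ⁻¹ᵁ LefPen.chart r k c) := (LefPenLib.chartAff c).2.preimage i
    have hkle : RingHom.ker (i.app (LefPen.chart r k c)).hom ≤ M := fun b hb => hker (by
      rw [RingHom.mem_ker] at hb ⊢
      rw [theta, RingHom.comp_apply, hb, map_zero])
    have hcm : (M.map (i.app (LefPen.chart r k c)).hom).comap (i.app (LefPen.chart r k c)).hom = M := by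
      rw [Ideal.comap_map_of_surjective _ hsurj, sup_eq_left]
      exact hkle
    have hM' : (M.map (i.app (LefPen.chart r k c)).hom).IsPrime :=
      Ideal.map_isPrime_of_surjective hsurj hkle
    obtain ⟨j₀, s, hs, hb⟩ := exists_local (k := k) hdim hVaff h _ hM' hm ha
    obtain ⟨s', rfl⟩ := hsurj s
    refine ⟨j₀, s', fun hmem => hs (Ideal.mem_map_of_mem _ hmem), fun j => ?_⟩
    obtain ⟨b, hb⟩ := hb j
    obtain ⟨b', rfl⟩ := hsurj b
    exact ⟨b', hb⟩

include hdim in
theorem exists_presentation (hi : i ≫ CohB1.ProjSpace.toSpec r k = X ↘ Spec (CommRingCat.of k))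
    {x : Fin (r + 1) → X.functionField} (hx : ∀ l, x l ≠ 0)
    (hθ : ∀ j, ∃ h : genericPoint X ∈ i ⁻¹ᵁ LefPen.chart r k j,
        ∀ p, theta i j h (psi k r j p) = MvPolynomial.aeval (fun l => x l / x j) p)
    {a : Fin m → X.functionField} (hm : 0 < m) (ha : ∀ j, a j ≠ 0)
    (L : Fin m → Fin n → MvPolynomial (Fin (r + 1)) k) (hL : ∀ l j, (L l j).IsHomogeneous 1)
    (hL0 : ∀ j, val x a (fun l => L l j) = 0)
    (hgen : ∀ (t : ℕ) (V : Fin m → MvPolynomial (Fin (r + 1)) k), (∀ j, (V j).IsHomogeneous (t + 1)) → val x a V = 0 →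
        V ∈ Submodule.span (MvPolynomial (Fin (r + 1)) k) (Set.range fun j l => L l j)) :
    Fitt.sheafIdeal (cokernel (linHom k r L)) 0 = i.ker := by
  refine Scheme.IdealSheafData.ext_of_iSup_eq_top (fun c => LefPenLib.chartAff c) LefPenLib.iSup_chart fun c => ?_
  obtain ⟨h, hc⟩ := hθ c
  rw [Scheme.Hom.ker_apply]
  refine (ideal_chart k r L (fun l j => (MvPolynomial.mem_homogeneousSubmodule 1 _).2 (hL l j)) c).trans ?_
  refine (ker_le_ideal hdim i c h (hx c) hc hm ha L hL hL0 hgen).trans ?_
  refine RingHom.ker_comp_of_injective _ ?_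
  exact germ_injective_of_isIntegral (X := X) (genericPoint X) h

end Curve

end Groth.Agent.GLP
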