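import Groth.Agent.CurveFF.Degree
import Groth.Agent.ProjUPX.Unique
import Groth.Agent.LefPenLib.Hyp
import Groth.Agent.H23.PnChart
import Groth.Agent.CurveVA.Converse
import Groth.Agent.PnCoh.TwistH0
import Groth.Agent.PnCoh.Finite.TwistInv
import Groth.Agent.PicClLib.Basic
import Groth.Prelude.Def_OmAff

/-!
# The coordinate functions of a curve in projective space
-/

set_option autoImplicit false
set_option linter.style.haveILetI false
set_option linter.unusedSectionVars false
set_option backward.isDefEq.respectTransparency false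
set_option backward.isDefEq.respectTransparency.types false
set_option synthInstance.maxHeartbeats 400000
set_option maxHeartbeats 1000000

universe u

open CategoryTheory CategoryTheory.Limits AlgebraicGeometry TopologicalSpace Opposite MvPolynomial
open Groth.Agent.CurveCohLib.Polar (InR eta_mem)

noncomputable section

namespace Groth.Agent.GLP

attribute [local instance] CurveFF.ffAlg

variable (k : Type u) [Field k] (r : ℕ)

/-- A polynomial as a function on a chart. -/
def psi (i : Fin (r + 1)) :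
    MvPolynomial (Fin (r + 1)) k →+* Γ(CohB1.ProjSpace r k, LefPen.chart r k i) :=
  (Proj.awayToSection (CohB1.polyGrading r k) (MvPolynomial.X i)).hom.comp (ZetaLib.dehom r k i)

theorem psi_surjective (i : Fin (r + 1)) : Function.Surjective (psi k r i) := by
  haveI : IsIso (Proj.awayToSection (CohB1.polyGrading r k) (MvPolynomial.X i)) :=
    inferInstanceAs (IsIso (Proj.basicOpenIsoAway (CohB1.polyGrading r k) (MvPolynomial.X i)
      (ZetaLib.X_mem_one r k i) Nat.one_pos).hom)
  exact ((ConcreteCategory.bijective_of_isIso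
    (Proj.awayToSection (CohB1.polyGrading r k) (MvPolynomial.X i))).2).comp (ZetaLib.surjective_dehom r k i)

theorem psi_C (i : Fin (r + 1)) (c : k) :
    psi k r i (C c) = (CohB1.ProjSpace.toSpec r k).appLE ⊤ (LefPen.chart r k i) le_top
      ((Scheme.ΓSpecIso (CommRingCat.of k)).inv c) := by
  refine Eq.trans ?_ (CurveVA.toSpec_appLE_chart r k i c).symm
  exact congrArg (Proj.awayToSection (CohB1.polyGrading r k) (MvPolynomial.X i)).hom (eval₂Hom_C _ _ c)

theorem psi_X_self (i : Fin (r + 1)) : psi k r i (X i) = 1 := by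
  exact (congrArg (Proj.awayToSection (CohB1.polyGrading r k) (MvPolynomial.X i)).hom
    ((eval₂Hom_X' _ _ i).trans (H23.PnChart.coord_self r k i))).trans (map_one _)

theorem psi_form {d : ℕ} (G : LefPen.Form r k d) (i : Fin (r + 1)) : psi k r i G.1 = LefPen.dehom G i :=
  (LefPenLib.dehom_eq G i).symm

variable {k r} {X : Scheme.{u}} [X.Over (Spec (CommRingCat.of k))] [IsIntegral X]
  (i : X ⟶ CohB1.ProjSpace r k)

/-- The restriction to the curve, in the function field. -/
def theta (j : Fin (r + 1)) (h : genericPoint X ∈ i ⁻¹ᵁ LefPen.chart r k j) :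
    Γ(CohB1.ProjSpace r k, LefPen.chart r k j) →+* X.functionField :=
  (X.presheaf.germ (i ⁻¹ᵁ LefPen.chart r k j) (genericPoint X) h).hom.comp (i.app (LefPen.chart r k j)).hom

variable (hi : i ≫ CohB1.ProjSpace.toSpec r k = X ↘ Spec (CommRingCat.of k))

include hi in
theorem theta_psi_C (j : Fin (r + 1)) (h : genericPoint X ∈ i ⁻¹ᵁ LefPen.chart r k j) (c : k) :
    theta i j h (psi k r j (C c)) = algebraMap k X.functionField c := by
  rw [psi_C]
  show X.presheaf.germ _ _ h (i.app _ ((CohB1.ProjSpace.toSpec r k).appLE ⊤ _ le_top _)) = _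
  rw [← Scheme.Hom.appLE_eq_app, ← CommRingCat.comp_apply (f := (CohB1.ProjSpace.toSpec r k).appLE ⊤ _ le_top),
    Scheme.Hom.appLE_comp_appLE]
  simp only [hi]
  rw [Scheme.Hom.appLE, CommRingCat.comp_apply]
  erw [X.presheaf.germ_res_apply]
  rfl

include hi in
theorem theta_psi (j : Fin (r + 1)) (h : genericPoint X ∈ i ⁻¹ᵁ LefPen.chart r k j)
    (p : MvPolynomial (Fin (r + 1)) k) :
    theta i j h (psi k r j p) = aeval (fun l => theta i j h (psi k r j (MvPolynomial.X l))) p := by
  suffices H : (theta i j h).comp (psi k r j) =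
      (aeval (R := k) fun l => theta i j h (psi k r j (MvPolynomial.X l))).toRingHom from congr($H p)
  refine MvPolynomial.ringHom_ext (fun c => ?_) fun l => ?_
  · simp [theta_psi_C i hi j h c]
  · simp

variable [IsAlgClosed k] [IsProper (X ↘ Spec (CommRingCat.of k))] [Smooth (X ↘ Spec (CommRingCat.of k))]
  (hdim : topologicalKrullDim X = 1)

include hi hdim in
theorem exists_coords
    (hplane : ∀ s : LinSer.Sect (CohB1.ProjSpace r k) (Twist.twistProjSpace r k 1), s ≠ 0 →
      OmegaSh.pullSect i (Twist.twistProjSpace r k 1) ⊤ s ≠ 0) :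
    ∃ (D : FunFld.Divisor k X.functionField) (x : Fin (r + 1) → X.functionField),
      D.deg = Curv2.deg k X ((Scheme.Modules.pullback i).obj (Twist.twistProjSpace r k 1)) 1 ∧
      LinearIndependent k x ∧ (∀ l, x l ∈ FunFld.L D) ∧
      (∀ P : FunFld.Place k X.functionField, ∃ l, P.1 (x l) = WithZero.exp (D P)) ∧
      ∀ j, ∃ h : genericPoint X ∈ i ⁻¹ᵁ LefPen.chart r k j,
        ∀ p, theta i j h (psi k r j p) = aeval (fun l => x l / x j) p := by
  classical
  let M := (Scheme.Modules.pullback i).obj (Twist.twistProjSpace r k 1)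
  have hM : PicF.IsInvertible M := PicClLib.isInvertible_pullback i (PnCoh.Finite.isInvertible_twist
    (fun j : ULift.{u} (Fin (r + 1)) => MvPolynomial.X j.down) (fun j => ProjPt.X_mem j.down) (by
      refine top_le_iff.1 ((AmpleEmbed.iSup_basicOpen_X r k).ge.trans (iSup_le fun j => ?_))
      exact le_iSup_of_le (ULift.up j) le_rfl) 1)
  obtain ⟨j₀, h₀⟩ : ∃ j, genericPoint X ∈ i ⁻¹ᵁ LefPen.chart r k j :=
    (Opens.mem_iSup.1 (show i (genericPoint X) ∈ ⨆ j, LefPen.chart r k j from LefPenLib.iSup_chart.ge trivial)).imp fun _ h => h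
  have hX : ∀ l, (MvPolynomial.X l : MvPolynomial (Fin (r + 1)) k) ∈ CohB1.polyGrading r k 1 := LefPen.X_mem r k
  have hfr := fun j => ProjUPX.isFrame_pullG i (hX j)
  have ht : genericPoint X ∈ (⊤ : X.Opens) := trivial
  let x : Fin (r + 1) → X.functionField := fun l => CurveFF.ratio (hfr j₀) h₀ ht (ProjUPX.pullG i (hX l))
  have hgen : ∀ {a : MvPolynomial (Fin (r + 1)) k} (ha : a ∈ CohB1.polyGrading r k 1) (j : Fin (r + 1))
      (h : genericPoint X ∈ i ⁻¹ᵁ LefPen.chart r k j),
      CurveFF.gM (M := M) ht (ProjUPX.pullG i ha) =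
        theta i j h (psi k r j a) • CurveFF.gM (M := M) ht (ProjUPX.pullG i (hX j)) := by
    intro a ha j h
    have e := congrArg (CurveFF.gM h) (ProjUPX.res_pullG i ha (hX j) (le_refl (i ⁻¹ᵁ LefPen.chart r k j)))
    erw [CurveFF.gM_res (M := M) le_top h, CurveFF.gM_smul, CurveFF.gM_res (M := M) le_top h] at e
    refine e.trans (congrArg (· • _) ?_)
    rw [psi_form k r (⟨a, ha⟩ : LefPen.Form r k 1) j]
    show X.presheaf.germ _ _ h _ = X.presheaf.germ _ _ h _
    rw [ProjUPX.ratioOf, Scheme.Hom.appLE_eq_app]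
    rfl
  have hx : ∀ {a : MvPolynomial (Fin (r + 1)) k} (ha : a ∈ CohB1.polyGrading r k 1) (j : Fin (r + 1))
      (h : genericPoint X ∈ i ⁻¹ᵁ LefPen.chart r k j),
      CurveFF.ratio (hfr j₀) h₀ ht (ProjUPX.pullG i ha) = theta i j h (psi k r j a) * x j := by
    intro a ha j h
    refine CurveFF.ratio_eq _ ?_
    rw [mul_smul]
    exact (congrArg (theta i j h (psi k r j a) • ·) (CurveFF.ratio_spec (hfr j₀) h₀ ht _)).trans (hgen ha j h).symm
  have hx₀ : x j₀ = 1 := CurveFF.ratio_eq _ (by rw [one_smul, CurveFF.gM_res])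
  have hxl : ∀ l, theta i j₀ h₀ (psi k r j₀ (MvPolynomial.X l)) = x l := fun l => by
    show _ = CurveFF.ratio _ _ _ _
    rw [hx (hX l) j₀ h₀, hx₀, mul_one]
  have hind : LinearIndependent k x := by
    rw [Fintype.linearIndependent_iff]
    intro c hc
    let G : LefPen.Form r k 1 := ⟨∑ l, C (c l) * MvPolynomial.X l, Submodule.sum_mem _ fun l _ =>
      (MvPolynomial.mem_homogeneousSubmodule 1 _).2 (by simpa using (isHomogeneous_C _ (c l)).mul (isHomogeneous_X k l))⟩
    have h0 : ProjUPX.pullG i G.2 = 0 := by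
      refine CurveFF.ext_gM hM ht ?_
      rw [map_zero, hgen G.2 j₀ h₀, theta_psi i hi]
      simp only [hxl, G, map_sum, map_mul, aeval_C, aeval_X, ← Algebra.smul_def, hc, zero_smul]
    have h2 : (Twist.globalOf (CohB1.polyGrading r k) G : LinSer.Sect _ (Twist.twistProjSpace r k 1)) = 0 :=
      not_not.1 fun h => hplane _ h h0
    have hG : G = 0 := by
      apply (PnCoh.globalOfEquiv (ι := Fin (r + 1)) (R := k) (d := 1)).injective
      have h := PnCoh.globalOf_add (ι := Fin (r + 1)) (R := k) (d := 1) 0 0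
      rw [add_zero] at h
      exact h2.trans (left_eq_add.1 h).symm
    intro l
    have := congrArg (fun p : LefPen.Form r k 1 => coeff (Finsupp.single l 1) p.1) hG
    simpa [G, coeff_sum, coeff_X', Finsupp.single_eq_single_iff] using this
  have hall : ∀ l, genericPoint X ∈ i ⁻¹ᵁ LefPen.chart r k l := by
    intro l
    let g := ProjUPX.ratioOf i (hX l) (hX j₀) (le_refl (i ⁻¹ᵁ LefPen.chart r k j₀))
    have hg : X.presheaf.germ _ (genericPoint X) h₀ g = x l := by
      rw [← hxl, psi_form k r (⟨MvPolynomial.X l, hX l⟩ : LefPen.Form r k 1) j₀]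
      show _ = X.presheaf.germ _ _ h₀ (i.app _ (LefPen.dehom _ j₀))
      simp only [g, ProjUPX.ratioOf, Scheme.Hom.appLE_eq_app]
      rfl
    have hη : genericPoint X ∈ X.basicOpen g := by
      rw [X.mem_basicOpen _ _ h₀]
      refine isUnit_iff_ne_zero.2 ?_
      erw [hg]
      exact hind.ne_zero l
    refine ProjUPX.le_preimage_of_isUnit i (hX l) (hX j₀) (X.basicOpen_le g) ?_ hη
    refine Eq.mp (congrArg IsUnit ?_) (RingedSpace.isUnit_res_basicOpen X.toRingedSpace g)
    exact ConcreteCategory.congr_hom (Scheme.Hom.appLE_map i (le_refl _) (homOfLE (X.basicOpen_le g)).op) _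
  refine ⟨CurveFF.divisor k hdim hM (hfr j₀) h₀, x, CurveFF.deg_divisor k hdim hM (hfr j₀) h₀, hind, ?_, ?_, ?_⟩
  · intro l P
    obtain ⟨z, rfl⟩ := (CurveFF.pl k X hdim).surjective P
    obtain ⟨j, hj⟩ : ∃ j, z.1 ∈ i ⁻¹ᵁ LefPen.chart r k j :=
      (Opens.mem_iSup.1 (show i z.1 ∈ ⨆ j, LefPen.chart r k j from LefPenLib.iSup_chart.ge trivial)).imp fun _ h => h
    rw [CurveFF.exp_divisor k hdim hM (hfr j₀) h₀ (hfr j) (hall j) hj,
      show CurveFF.ratio (hfr j₀) h₀ (hall j) _ = x j from CurveFF.ratio_eq _ (by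
        rw [CurveFF.ratio_spec, CurveFF.gM_res]),
      show x l = theta i j (hall j) (psi k r j (MvPolynomial.X l)) * x j from hx (hX l) j (hall j), map_mul]
    exact mul_le_of_le_one_left' ((CurveFF.inR_iff k X hdim z _).1 (CurveCohLib.Polar.inR_gη hj _))
  · intro P
    obtain ⟨z, rfl⟩ := (CurveFF.pl k X hdim).surjective P
    obtain ⟨j, hj⟩ : ∃ j, z.1 ∈ i ⁻¹ᵁ LefPen.chart r k j :=
      (Opens.mem_iSup.1 (show i z.1 ∈ ⨆ j, LefPen.chart r k j from LefPenLib.iSup_chart.ge trivial)).imp fun _ h => h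
    refine ⟨j, ?_⟩
    rw [CurveFF.exp_divisor k hdim hM (hfr j₀) h₀ (hfr j) (hall j) hj,
      show CurveFF.ratio (hfr j₀) h₀ (hall j) _ = x j from CurveFF.ratio_eq _ (by
        rw [CurveFF.ratio_spec, CurveFF.gM_res])]
  · intro j
    refine ⟨hall j, fun p => ?_⟩
    rw [theta_psi i hi]
    congr 2
    funext l
    rw [eq_div_iff (hind.ne_zero j)]
    exact (hx (hX l) j (hall j)).symm

end Groth.Agent.GLP
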