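import Groth.Agent.GLP.Bridge
import Groth.Agent.CurveCohLib.RegularCurve
import Groth.Agent.S12911

/-!
# Regularity of curves in projective space
-/

set_option autoImplicit false
set_option linter.style.haveILetI false
set_option linter.unusedSectionVars false
set_option backward.isDefEq.respectTransparency false
set_option backward.isDefEq.respectTransparency.types false
set_option synthInstance.maxHeartbeats 400000
set_option maxHeartbeats 1000000

universe u

open CategoryTheory CategoryTheory.Limits AlgebraicGeometry TopologicalSpace Opposite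

noncomputable section

namespace Groth.Agent.GLP

open Groth.Agent FunFld

attribute [local instance] CurveFF.ffAlg

section Count

variable {α : Type*} {n : ℕ} (f : Fin n → ℤ) (hf : ∀ i, f i ≤ -1)

include hf in
theorem le_of_sum_erase (s : Finset (Fin n)) : ∑ i, f i + ((n : ℤ) - s.card) ≤ ∑ i ∈ s, f i := by
  rw [← Finset.sum_add_sum_compl s f]
  have h : ∑ i ∈ sᶜ, f i ≤ ∑ _i ∈ sᶜ, (-1 : ℤ) := Finset.sum_le_sum fun i _ => hf i
  rw [Finset.sum_const, Finset.card_compl, Fintype.card_fin, nsmul_eq_mul] at h
  have := Nat.cast_sub (R := ℤ) (show s.card ≤ n by simpa using s.card_le_univ)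
  omega

end Count

variable (k : Type u) [Field k] [IsAlgClosed k] (r : ℕ) (X : Scheme.{u}) [X.Over (Spec (CommRingCat.of k))]
  [IsIntegral X] [IsProper (X ↘ Spec (CommRingCat.of k))] [Smooth (X ↘ Spec (CommRingCat.of k))]
  (hdim : topologicalKrullDim X = 1) (i : X ⟶ CohB1.ProjSpace r k) [IsClosedImmersion i]

include hdim in
/-- The ideal of a nondegenerate curve is a Fitting ideal of a linear matrix. -/
theorem exists_linear_presentation (hr : 2 ≤ r)
    (hi : i ≫ CohB1.ProjSpace.toSpec r k = X ↘ Spec (CommRingCat.of k))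
    (hplane : ∀ s : LinSer.Sect (CohB1.ProjSpace r k) (Twist.twistProjSpace r k 1), s ≠ 0 →
      OmegaSh.pullSect i (Twist.twistProjSpace r k 1) ⊤ s ≠ 0) :
    ∃ m n : ℕ, (m : ℤ) = Curv2.deg k X ((Scheme.Modules.pullback i).obj (Twist.twistProjSpace r k 1)) 1 - (r : ℤ) + 2 ∧
      ∃ φ : EagonN.Src k r n ⟶ FlatMod.freeMod (Proj (CohB1.polyGrading r k)) m,
        Fitt.sheafIdeal (cokernel φ) 0 = i.ker := by
  classical
  obtain ⟨D, x, hdeg, hind, hxD, hbp, hθ⟩ := exists_coords i hi hdim hplane
  have hK := CurveFF.isFunctionField k X hdim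
  have hdeg1 : ∀ P : Place k X.functionField, P.deg = 1 := FFLib.deg_eq_one hK.1
  obtain ⟨Q, hlen, hneg, hsum, h1, h2⟩ := exists_system hK hdeg1 r D x hind hxD hbp
  let q : Fin Q.length → Divisor k X.functionField := fun a => Q.get a
  let f : Fin Q.length → ℤ := fun a => (q a).deg
  have hf : ∀ a, f a ≤ -1 := fun a => hneg _ (List.get_mem Q a)
  have hfs : ∑ a, f a = -D.deg := by
    rw [← hsum]
    conv_rhs => rw [← List.ofFn_get Q, List.map_ofFn, List.sum_ofFn]
    rfl
  let R : Option (Fin Q.length) ⊕ {p : Fin Q.length × Fin Q.length // p.1 ≠ p.2} → Divisor k X.functionField :=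
    Sum.elim (fun o => o.elim 0 q) (fun p => q p.1.1 + q p.1.2)
  let e : ℤ := -D.deg + (r : ℤ) - 2
  have hR : ∀ z, e ≤ (R z).deg := by
    rintro ((_ | a) | ⟨⟨a, b⟩, hab⟩)
    · have := le_of_sum_erase f hf ∅
      simp only [hfs, hlen, Finset.card_empty, Nat.cast_zero, Finset.sum_empty] at this
      simp only [R, e, Sum.elim_inl, Option.elim_none, FFLib.Divisor.deg_zero]
      omega
    · have := le_of_sum_erase f hf {a}
      simp only [hfs, hlen, Finset.card_singleton, Nat.cast_one, Finset.sum_singleton] at this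
      simp only [R, e, Sum.elim_inl, Option.elim_some]
      simp only [f] at this
      omega
    · have := le_of_sum_erase f hf {a, b}
      rw [Finset.sum_pair hab, Finset.card_pair hab, hfs] at this
      simp only [R, e, Sum.elim_inr, FFLib.Divisor.deg_add]
      simp only [f] at this
      push_cast [hlen] at this
      omega
  obtain ⟨A, hA, hNS⟩ := exists_divisor hK hdeg1 R e hR (genus k X.functionField + 1)
    (D.deg - r + 1 + genus k X.functionField) (by simp only [e]; omega) (by simp only [e]; push_cast; omega)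
  have hA1 : Hyp2 Q A := by
    refine ⟨fun p hp => ?_, ?_⟩
    · obtain ⟨a, rfl⟩ := List.get_of_mem hp
      exact hNS (Sum.inl (some a))
    · rw [List.pairwise_iff_get]
      intro a b hab
      have := hNS (Sum.inr ⟨(a, b), hab.ne⟩)
      rwa [add_assoc]
  have hA0 : NS A := by simpa [R] using hNS (Sum.inl none)
  haveI := FFLib.L_finite hK.1 A
  let b := Module.finBasis k (L A)
  let a : Fin (ell A) → X.functionField := fun j => (b j).1
  have hspan : Submodule.span k (Set.range a) = L A := by
    rw [show a = (L A).subtype ∘ b from rfl, Set.range_comp, Submodule.span_image, b.span_eq, Submodule.map_top,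
      Submodule.range_subtype]
  have ha0 : ∀ j, a j ≠ 0 := fun j h => b.ne_zero j (Subtype.ext h)
  obtain ⟨n, M, hM, hM0, hgen⟩ := exists_matrix hK hxD (hind.ne_zero 0) (fun j => (b j).2) hspan hA1 h1 h2
  have hm : (ell A : ℤ) = D.deg - r + 2 := by rw [NS] at hA0; omega
  have hrD : (r : ℤ) ≤ D.deg := by
    have := le_of_sum_erase f hf ∅
    simp only [hfs, hlen, Finset.card_empty, Nat.cast_zero, Finset.sum_empty] at this
    omega
  exact ⟨ell A, n, hdeg ▸ hm, linHom k r M,
    exists_presentation hdim i hi (fun l => hind.ne_zero l) hθ (by omega) ha0 M hM hM0 hgen⟩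

omit [IsAlgClosed k] [IsProper (X ↘ Spec (CommRingCat.of k))] [Smooth (X ↘ Spec (CommRingCat.of k))] [IsIntegral X] in
include hdim in
theorem dim_support [QuasiCompact i] :
    topologicalKrullDim (i.ker.support : Set (CohB1.ProjSpace r k)) ≤ 1 := by
  have he : Topology.IsClosedEmbedding i := i.isClosedEmbedding
  rw [Scheme.Hom.support_ker]
  refine le_of_le_of_eq ?_ hdim
  show topologicalKrullDim (closure (Set.range i) : Set _) ≤ _
  rw [he.isClosed_range.closure_eq]
  exact ((he.isEmbedding.toHomeomorph).isHomeomorph.topologicalKrullDim_eq).ge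

end Groth.Agent.GLP
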